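import Mathlib
import Cfsg.Agent.Helper9.J2.PChain
import Cfsg.Agent.Helper9.J3.Fast

set_option autoImplicit false
set_option Elab.async false

/-!
Groups of permutations given by packed tables: a binary tree of packed tables, the permutations of
the tables, the group generated by the first tables (the letters), products of tables recorded by
a straight-line program, and words in the tables, all written with bare recursors for the kernel.
-/

noncomputable section

namespace Cfsg.Agent.Helper9.OutG

open Cfsg.Agent.Helper9.J3 Cfsg.Agent.Helper9.PChain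

/-- a binary tree of numbers. -/
inductive NTree : Type
  | leaf (v : ℕ) : NTree
  | node (l r : NTree) : NTree

/-- the entry of a tree with a given index, the bits of the index being read from the lowest. -/
def tget (t : NTree) (k : ℕ) : ℕ :=
  NTree.rec (motive := fun _ => ℕ → ℕ) (fun v _ => v)
    (fun _ _ ihl ihr k => Nat.rec (ihl (Nat.shiftRight k 1))
      (fun _ _ => ihr (Nat.shiftRight k 1)) (Nat.land k 1)) t k

/-- the disjunction. -/
def orB (a b : Bool) : Bool := Bool.rec b true a

theorem orB_true {a b : Bool} (h : orB a b = true) : a = true ∨ b = true := by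
  cases a
  · exact Or.inr h
  · exact Or.inl rfl

/-- the negation. -/
def notB (a : Bool) : Bool := Bool.rec true false a

theorem notB_true {a : Bool} (h : notB a = true) : a = false := by
  cases a
  · rfl
  · exact absurd h Bool.false_ne_true

/-- the strict order as the kernel computes it. -/
def ltB (a b : ℕ) : Bool := Nat.ble (Nat.succ a) b

theorem ltB_true {a b : ℕ} (h : ltB a b = true) : a < b := Nat.le_of_ble_eq_true h

theorem ltB_false {a b : ℕ} (h : ltB a b = false) : ¬ a < b := by
  intro hlt
  have : ltB a b = true := Nat.ble_eq_true_of_le hlt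
  rw [h] at this
  exact Bool.false_ne_true this

/-- the data of a group of permutations given by tables: the degree, the number of bits of an
entry of a table and the mask of an entry, the number of tables, the number of letters, the tree of
the packed tables, the packed indices of the inverse tables, and the defining words. -/
structure Dat where
  /-- the degree. -/
  n : ℕ
  /-- the number of bits of an entry. -/
  bits : ℕ
  /-- the mask of an entry. -/
  msk : ℕ
  /-- the number of tables. -/
  K : ℕ
  /-- the number of letters. -/
  L : ℕ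
  /-- the tree of the packed tables. -/
  tree : NTree
  /-- the packed indices of the inverse tables, 16 bits each. -/
  ivN : ℕ
  /-- the defining words of the tables that are not letters. -/
  dw : List (List ℕ)

variable (D : Dat)

/-- the image of a point under a table; tables beyond the range are the identity. -/
def T (k x : ℕ) : ℕ :=
  Bool.rec x (lkF D.bits D.msk (tget D.tree k) x) (ltB k D.K)

theorem T_ge {k : ℕ} (hk : ¬ k < D.K) (x : ℕ) : T D k x = x := by
  unfold T
  have : ltB k D.K = false := by
    cases h : ltB k D.K
    · rfl
    · exact absurd (ltB_true h) hk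
  rw [this]

/-- the index of the inverse table. -/
def ivI (k : ℕ) : ℕ := Bool.rec k (lkF 16 65535 D.ivN k) (ltB k D.K)

theorem ivI_ge {k : ℕ} (hk : ¬ k < D.K) : ivI D k = k := by
  unfold ivI
  have : ltB k D.K = false := by
    cases h : ltB k D.K
    · rfl
    · exact absurd (ltB_true h) hk
  rw [this]

/-- the check of the tables: the images are in the range, the table of the inverse index undoes
the table, and the inverse index of the inverse index is the index. -/
def tabChk (k : ℕ) : Bool :=
  andB (ltB (ivI D k) D.K) (andB (Nat.beq (ivI D (ivI D k)) k)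
    (allB (fun x => andB (ltB (T D k x) D.n) (Nat.beq (T D (ivI D k) (T D k x)) x)) D.n))

/-- the check of all tables. -/
def tabOK : Prop := ∀ k, k < D.K → tabChk D k = true

section perm

variable (hD : tabOK D)

include hD

theorem ivI_lt {k : ℕ} (hk : k < D.K) : ivI D k < D.K :=
  ltB_true (andB_true (hD k hk)).1

theorem ivI_ivI (k : ℕ) : ivI D (ivI D k) = k := by
  by_cases hk : k < D.K
  · exact Nat.eq_of_beq_eq_true (andB_true (andB_true (hD k hk)).2).1
  · rw [ivI_ge D hk, ivI_ge D hk]

theorem T_lt (k : ℕ) {x : ℕ} (hx : x < D.n) : T D k x < D.n := by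
  by_cases hk : k < D.K
  · exact ltB_true (andB_true (allB_true (andB_true (andB_true (hD k hk)).2).2 hx)).1
  · rw [T_ge D hk]
    exact hx

theorem T_iv (k : ℕ) {x : ℕ} (hx : x < D.n) : T D (ivI D k) (T D k x) = x := by
  by_cases hk : k < D.K
  · exact Nat.eq_of_beq_eq_true
      (andB_true (allB_true (andB_true (andB_true (hD k hk)).2).2 hx)).2
  · rw [ivI_ge D hk, T_ge D hk, T_ge D hk]

theorem T_iv' (k : ℕ) {x : ℕ} (hx : x < D.n) : T D k (T D (ivI D k) x) = x := by
  have h := T_iv D hD (ivI D k) hx
  rw [ivI_ivI D hD] at h
  exact h

/-- the permutation of a table. -/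
def El (k : ℕ) : Equiv.Perm (Fin D.n) :=
  mkPerm (T D k) (T D (ivI D k)) (fun _ hx => T_lt D hD k hx) (fun _ hx => T_lt D hD _ hx)
    (fun _ hx => T_iv D hD k hx) (fun _ hx => T_iv' D hD k hx)

theorem El_apply (k : ℕ) (x : Fin D.n) : (El D hD k x).val = T D k x.val := rfl

omit hD in
theorem perm_ext {σ τ : Equiv.Perm (Fin D.n)} (h : ∀ x : Fin D.n, (σ x).val = (τ x).val) :
    σ = τ := Equiv.ext fun x => Fin.ext (h x)

theorem El_ge {k : ℕ} (hk : ¬ k < D.K) : El D hD k = 1 := by
  apply perm_ext D
  intro x
  rw [El_apply, T_ge D hk]
  rfl

theorem El_iv (k : ℕ) : El D hD (ivI D k) = (El D hD k)⁻¹ := by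
  rw [eq_inv_iff_mul_eq_one]
  apply perm_ext D
  intro x
  rw [Equiv.Perm.mul_apply, El_apply, El_apply]
  exact T_iv D hD k x.isLt

/-- the group generated by the letters. -/
def grp : Subgroup (Equiv.Perm (Fin D.n)) :=
  Subgroup.closure (Set.range fun l : Fin D.L => El D hD l.val)

theorem letter_mem {l : ℕ} (hl : l < D.L) : El D hD l ∈ grp D hD :=
  Subgroup.subset_closure ⟨⟨l, hl⟩, rfl⟩

end perm

/-! ### words -/

/-- the image of a point under a word in the tables, as the kernel computes it. -/
def evalT (w : List ℕ) (x : ℕ) : ℕ :=
  List.rec (motive := fun _ => ℕ → ℕ) (fun x => x) (fun k _ ih x => sapp (T D k) (ih x)) w x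

theorem evalT_nil (x : ℕ) : evalT D [] x = x := rfl

theorem evalT_cons (k : ℕ) (w : List ℕ) (x : ℕ) : evalT D (k :: w) x = T D k (evalT D w x) := by
  change sapp (T D k) (evalT D w x) = _
  rw [sapp_eq]

theorem evalT_append (u w : List ℕ) (x : ℕ) : evalT D (u ++ w) x = evalT D u (evalT D w x) := by
  induction u with
  | nil => rfl
  | cons k u ih => rw [List.cons_append, evalT_cons, evalT_cons, ih]

theorem evalT_lt (hD : tabOK D) (w : List ℕ) {x : ℕ} (hx : x < D.n) : evalT D w x < D.n := by
  induction w with
  | nil => exact hx
  | cons k w ih =>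
    rw [evalT_cons]
    exact T_lt D hD k ih

/-! ### the defining words -/

/-- the entry of a list of words with a given index. -/
def nthW (l : List (List ℕ)) (i : ℕ) : List ℕ :=
  List.rec (motive := fun _ => ℕ → List ℕ) (fun _ => [])
    (fun w _ ih i => Nat.rec w (fun i' _ => ih i') i) l i

theorem nthW_eq (l : List (List ℕ)) (i : ℕ) : nthW l i = l.getD i [] := by
  induction l generalizing i with
  | nil => simp [nthW]
  | cons w l ih =>
    cases i with
    | zero => rfl
    | succ i =>
      change nthW l i = _
      rw [ih]
      rfl

/-- the check that the letters of a word are below a bound. -/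
def ltW (w : List ℕ) (k : ℕ) : Bool := List.rec true (fun l _ ih => andB (ltB l k) ih) w

theorem ltW_true {w : List ℕ} {k : ℕ} (h : ltW w k = true) : ∀ l ∈ w, l < k := by
  induction w with
  | nil => intro l hl; exact absurd hl List.not_mem_nil
  | cons m w ih =>
    have h' : andB (ltB m k) (ltW w k) = true := h
    obtain ⟨h1, h2⟩ := andB_true h'
    intro l hl
    rcases List.mem_cons.1 hl with rfl | hl
    · exact ltB_true h1
    · exact ih h2 l hl

/-- the defining word of a table that is not a letter. -/
def dwOf (k : ℕ) : List ℕ := nthW D.dw (Nat.sub k D.L)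

/-- the check of a defining word: a table that is not a letter is the product of former tables. -/
def dwChk (k : ℕ) : Bool :=
  orB (ltB k D.L) (andB (ltW (dwOf D k) k)
    (allB (fun x => Nat.beq (T D k x) (evalT D (dwOf D k) x)) D.n))

/-- the check of all defining words. -/
def dwOK : Prop := ∀ k, k < D.K → dwChk D k = true

section words

variable (hD : tabOK D)

/-- the permutation of a word. -/
def permW (w : List ℕ) : Equiv.Perm (Fin D.n) := (w.map (El D hD)).prod

theorem permW_nil : permW D hD [] = 1 := rfl

theorem permW_cons (k : ℕ) (w : List ℕ) : permW D hD (k :: w) = El D hD k * permW D hD w := by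
  unfold permW
  rw [List.map_cons, List.prod_cons]

theorem permW_append (u w : List ℕ) : permW D hD (u ++ w) = permW D hD u * permW D hD w := by
  unfold permW
  rw [List.map_append, List.prod_append]

theorem permW_single (k : ℕ) : permW D hD [k] = El D hD k := by
  rw [permW_cons, permW_nil, mul_one]

theorem permW_apply (w : List ℕ) (x : Fin D.n) : (permW D hD w x).val = evalT D w x.val := by
  induction w with
  | nil => rfl
  | cons k w ih =>
    rw [permW_cons, Equiv.Perm.mul_apply, El_apply, ih, evalT_cons]

theorem El_eq_permW (hP : dwOK D) {k : ℕ} (hk : k < D.K) (hL : ¬ k < D.L) :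
    El D hD k = permW D hD (dwOf D k) ∧ ∀ l ∈ dwOf D k, l < k := by
  rcases orB_true (hP k hk) with h | h
  · exact absurd (ltB_true h) hL
  · obtain ⟨h1, h2⟩ := andB_true h
    refine ⟨?_, ltW_true h1⟩
    apply perm_ext D
    intro x
    rw [El_apply, permW_apply]
    exact Nat.eq_of_beq_eq_true (allB_true h2 x.isLt)

theorem El_mem (hP : dwOK D) (k : ℕ) : El D hD k ∈ grp D hD := by
  induction k using Nat.strong_induction_on with
  | _ k ih =>
    by_cases hk : k < D.K
    · by_cases hL : k < D.L
      · exact letter_mem D hD hL
      · obtain ⟨e, hlt⟩ := El_eq_permW D hD hP hk hL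
        rw [e]
        apply Subgroup.list_prod_mem
        intro x hx
        obtain ⟨l, hl, rfl⟩ := List.mem_map.1 hx
        exact ih l (hlt l hl)
    · rw [El_ge D hD hk]
      exact Subgroup.one_mem _

theorem permW_mem (hP : dwOK D) (w : List ℕ) : permW D hD w ∈ grp D hD := by
  apply Subgroup.list_prod_mem
  intro x hx
  obtain ⟨k, -, rfl⟩ := List.mem_map.1 hx
  exact El_mem D hD hP k

/-- the inverse word. -/
def invW (w : List ℕ) : List ℕ := (w.map (ivI D)).reverse

theorem permW_invW (w : List ℕ) : permW D hD (invW D w) = (permW D hD w)⁻¹ := by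
  induction w with
  | nil =>
    change (1 : Equiv.Perm (Fin D.n)) = 1⁻¹
    rw [inv_one]
  | cons k w ih =>
    have e : invW D (k :: w) = invW D w ++ [ivI D k] := by
      unfold invW
      rw [List.map_cons, List.reverse_cons]
    rw [e, permW_append, ih, permW_single, El_iv, permW_cons, mul_inv_rev]

/-- the replication of a word. -/
def repW (w : List ℕ) (i : ℕ) : List ℕ := Nat.rec [] (fun _ acc => w ++ acc) i

theorem permW_repW (w : List ℕ) (i : ℕ) : permW D hD (repW w i) = permW D hD w ^ i := by
  induction i with
  | zero => rfl
  | succ i ih =>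
    change permW D hD (w ++ repW w i) = _
    rw [permW_append, ih, pow_succ']

end words

end Cfsg.Agent.Helper9.OutG

end
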