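import Mathlib
import Cfsg.Agent.Helper9.OutG.Tab

set_option autoImplicit false
set_option Elab.async false

/-!
Chains of point stabilisers along a base given by numbers: a certificate of words fixing the former
base points and moving the next base point to different points bounds the order of a subgroup
from below, and, when the order is known, shows that only the neutral element fixes the base.
-/

noncomputable section

namespace Cfsg.Agent.Helper9.OutG

open Cfsg.Agent.Helper9.J3 Cfsg.Agent.Helper9.PChain MulAction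

section fix

variable {n : ℕ}

/-- the permutations fixing the points whose numbers are in a list. -/
def fixN (l : List ℕ) : Subgroup (Equiv.Perm (Fin n)) where
  carrier := {σ | ∀ x : Fin n, x.val ∈ l → σ x = x}
  one_mem' := fun _ _ => rfl
  mul_mem' := by
    intro a b ha hb x hx
    change a (b x) = x
    rw [hb x hx, ha x hx]
  inv_mem' := by
    intro a ha x hx
    rw [Equiv.Perm.inv_eq_iff_eq]
    exact (ha x hx).symm

theorem mem_fixN (l : List ℕ) (σ : Equiv.Perm (Fin n)) :
    σ ∈ fixN l ↔ ∀ x : Fin n, x.val ∈ l → σ x = x := Iff.rfl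

theorem fixN_nil : fixN ([] : List ℕ) = (⊤ : Subgroup (Equiv.Perm (Fin n))) := by
  ext σ
  simp [mem_fixN]

theorem mem_fixN_append (l : List ℕ) (b : Fin n) (σ : Equiv.Perm (Fin n)) :
    σ ∈ fixN (l ++ [b.val]) ↔ σ ∈ fixN l ∧ σ b = b := by
  rw [mem_fixN, mem_fixN]
  constructor
  · intro h
    exact ⟨fun x hx => h x (List.mem_append_left _ hx),
      h b (List.mem_append_right _ (List.mem_singleton.2 rfl))⟩
  · rintro ⟨h1, h2⟩ x hx
    rcases List.mem_append.1 hx with h | h
    · exact h1 x h
    · have : x = b := Fin.ext (List.mem_singleton.1 h)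
      rw [this]
      exact h2

/-- the stabiliser of a point in a stabiliser of the chain. -/
def stabEquivN (H : Subgroup (Equiv.Perm (Fin n))) (l : List ℕ) (b : Fin n) :
    ↥(stabilizer ↥(H ⊓ fixN l) b) ≃ ↥(H ⊓ fixN (l ++ [b.val])) where
  toFun x := ⟨x.1.1, by
    have h1 := x.1.2
    have h2 : x.1.1 b = b := x.2
    rw [Subgroup.mem_inf] at h1 ⊢
    exact ⟨h1.1, (mem_fixN_append l b _).2 ⟨h1.2, h2⟩⟩⟩
  invFun y := ⟨⟨y.1, by
    have h1 := y.2
    rw [Subgroup.mem_inf] at h1 ⊢
    exact ⟨h1.1, ((mem_fixN_append l b _).1 h1.2).1⟩⟩, by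
    have h1 := y.2
    rw [Subgroup.mem_inf] at h1
    exact ((mem_fixN_append l b _).1 h1.2).2⟩
  left_inv x := rfl
  right_inv y := rfl

/-- the orbit-stabiliser identity along the chain. -/
theorem card_chainN (H : Subgroup (Equiv.Perm (Fin n))) (l : List ℕ) (b : Fin n) :
    Nat.card ↥(H ⊓ fixN l) =
      (orbit ↥(H ⊓ fixN l) b).ncard * Nat.card ↥(H ⊓ fixN (l ++ [b.val])) := by
  rw [← Nat.card_congr (stabEquivN H l b), ← index_stabilizer, Subgroup.index_mul_card]

/-- the lower bound. -/
theorem card_ge_stepN (H : Subgroup (Equiv.Perm (Fin n))) (l : List ℕ) (b : Fin n)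
    (O : Finset (Fin n)) (hO : ∀ y ∈ O, ∃ σ ∈ H ⊓ fixN l, σ b = y) (c : ℕ)
    (hc : c ≤ Nat.card ↥(H ⊓ fixN (l ++ [b.val]))) :
    O.card * c ≤ Nat.card ↥(H ⊓ fixN l) := by
  rw [card_chainN H l b]
  refine Nat.mul_le_mul ?_ hc
  have hsub : (O : Set (Fin n)) ⊆ orbit ↥(H ⊓ fixN l) b := by
    intro y hy
    obtain ⟨σ, hσ, rfl⟩ := hO y hy
    exact ⟨⟨σ, hσ⟩, rfl⟩
  calc O.card = (O : Set (Fin n)).ncard := (Set.ncard_coe_finset O).symm
    _ ≤ (orbit ↥(H ⊓ fixN l) b).ncard := Set.ncard_le_ncard hsub (Set.toFinite _)

end fix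

variable (D : Dat)

/-- the check that a word fixes the points of a list. -/
def fixChk (pre : List ℕ) (w : List ℕ) : Bool :=
  List.rec true (fun p _ ih => andB (Nat.beq (evalT D w p) p) ih) pre

theorem fixChk_true {pre : List ℕ} {w : List ℕ} (h : fixChk D pre w = true) :
    ∀ p ∈ pre, evalT D w p = p := by
  induction pre with
  | nil => intro p hp; exact absurd hp List.not_mem_nil
  | cons q pre ih =>
    have h' : andB (Nat.beq (evalT D w q) q) (fixChk D pre w) = true := h
    obtain ⟨h1, h2⟩ := andB_true h'
    intro p hp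
    rcases List.mem_cons.1 hp with rfl | hp
    · exact Nat.eq_of_beq_eq_true h1
    · exact ih h2 p hp

/-- the check of a level: the words fix the former base points, and the images of the base point
increase. -/
def lvlChk (pre : List ℕ) (β : ℕ) (ws : List (List ℕ)) (lo : ℕ) : Bool :=
  List.rec (motive := fun _ => ℕ → Bool) (fun _ => true)
    (fun w _ ih lo => andB (fixChk D pre w)
      (sapp (fun y => andB (Nat.ble lo y) (ih (Nat.succ y))) (evalT D w β))) ws lo

theorem lvlChk_cons (pre : List ℕ) (β : ℕ) (w : List ℕ) (ws : List (List ℕ)) (lo : ℕ) :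
    lvlChk D pre β (w :: ws) lo = andB (fixChk D pre w)
      (andB (Nat.ble lo (evalT D w β)) (lvlChk D pre β ws (Nat.succ (evalT D w β)))) := by
  change andB (fixChk D pre w) (sapp _ (evalT D w β)) = _
  rw [sapp_eq]
  rfl

/-- the images of the base point under the words of a level. -/
def lvlImg (β : ℕ) (ws : List (List ℕ)) : List ℕ := ws.map (fun w => evalT D w β)

theorem lvlChk_sound {pre : List ℕ} {β : ℕ} {ws : List (List ℕ)} {lo : ℕ}
    (h : lvlChk D pre β ws lo = true) :
    (∀ w ∈ ws, ∀ p ∈ pre, evalT D w p = p) ∧ (∀ y ∈ lvlImg D β ws, lo ≤ y) ∧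
      (lvlImg D β ws).Nodup := by
  induction ws generalizing lo with
  | nil =>
    refine ⟨fun w hw => absurd hw List.not_mem_nil, fun y hy => absurd hy List.not_mem_nil,
      List.nodup_nil⟩
  | cons w ws ih =>
    rw [lvlChk_cons] at h
    obtain ⟨h1, h2⟩ := andB_true h
    obtain ⟨h2, h3⟩ := andB_true h2
    obtain ⟨i1, i2, i3⟩ := ih h3
    refine ⟨?_, ?_, ?_⟩
    · intro u hu
      rcases List.mem_cons.1 hu with rfl | hu
      · exact fixChk_true D h1
      · exact i1 u hu
    · intro y hy
      change y ∈ evalT D w β :: lvlImg D β ws at hy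
      rcases List.mem_cons.1 hy with rfl | hy
      · exact Nat.le_of_ble_eq_true h2
      · have := i2 y hy
        have h4 := Nat.le_of_ble_eq_true h2
        omega
    · change (evalT D w β :: lvlImg D β ws).Nodup
      rw [List.nodup_cons]
      refine ⟨fun hmem => ?_, i3⟩
      have := i2 _ hmem
      omega

/-- the check of a chain: every base point is in the range, and every level is good. -/
def chainChk (bs : List ℕ) (pre : List ℕ) (wss : List (List (List ℕ))) : Bool :=
  List.rec (motive := fun _ => List ℕ → List (List (List ℕ)) → Bool)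
    (fun _ wss => List.rec true (fun _ _ _ => false) wss)
    (fun β _ ih pre wss => List.rec false
      (fun ws wss' _ => andB (ltB β D.n) (andB (lvlChk D pre β ws 0) (ih (pre ++ [β]) wss'))) wss)
    bs pre wss

theorem chainChk_nil_nil (pre : List ℕ) : chainChk D [] pre [] = true := rfl

theorem chainChk_cons_cons (β : ℕ) (bs pre : List ℕ) (ws : List (List ℕ))
    (wss : List (List (List ℕ))) :
    chainChk D (β :: bs) pre (ws :: wss) =
      andB (ltB β D.n) (andB (lvlChk D pre β ws 0) (chainChk D bs (pre ++ [β]) wss)) := rfl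

theorem chainChk_cons_nil (β : ℕ) (bs pre : List ℕ) : chainChk D (β :: bs) pre [] = false := rfl

theorem chainChk_nil_cons (pre : List ℕ) (ws : List (List ℕ)) (wss : List (List (List ℕ))) :
    chainChk D [] pre (ws :: wss) = false := rfl

/-- the product of the numbers of words of the levels. -/
def prodLen (wss : List (List (List ℕ))) : ℕ := (wss.map List.length).prod

section chain

variable (hD : tabOK D)

include hD

theorem chain_ge (H : Subgroup (Equiv.Perm (Fin D.n))) (bs : List ℕ) :
    ∀ (pre : List ℕ) (wss : List (List (List ℕ))),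
      (∀ ws ∈ wss, ∀ w ∈ ws, permW D hD w ∈ H) → chainChk D bs pre wss = true →
      prodLen wss * Nat.card ↥(H ⊓ fixN (pre ++ bs)) ≤ Nat.card ↥(H ⊓ fixN pre) := by
  induction bs with
  | nil =>
    intro pre wss _ h
    cases wss with
    | nil =>
      rw [List.append_nil]
      unfold prodLen
      simp
    | cons ws wss =>
      rw [chainChk_nil_cons] at h
      exact absurd h Bool.false_ne_true
  | cons β bs ih =>
    intro pre wss hH h
    cases wss with
    | nil =>
      rw [chainChk_cons_nil] at h
      exact absurd h Bool.false_ne_true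
    | cons ws wss =>
      rw [chainChk_cons_cons] at h
      obtain ⟨h1, h2⟩ := andB_true h
      obtain ⟨h2, h3⟩ := andB_true h2
      have hβ : β < D.n := ltB_true h1
      obtain ⟨s1, -, s3⟩ := lvlChk_sound D h2
      have ih' := ih (pre ++ [β]) wss
        (fun ws' hws' w hw => hH ws' (List.mem_cons_of_mem _ hws') w hw) h3
      rw [List.append_assoc, List.singleton_append] at ih'
      -- the images as a set of points
      let b : Fin D.n := ⟨β, hβ⟩
      let f : List ℕ → Fin D.n := fun w => permW D hD w b
      have hf : ∀ w, (f w).val = evalT D w β := fun w => permW_apply D hD w b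
      let O : Finset (Fin D.n) := (ws.map f).toFinset
      have hnd : (ws.map f).Nodup := by
        have : (ws.map f).map Fin.val = lvlImg D β ws := by
          rw [List.map_map]
          apply List.map_congr_left
          intro w _
          exact hf w
        have h4 : ((ws.map f).map Fin.val).Nodup := by rw [this]; exact s3
        exact List.Nodup.of_map _ h4
      have hOc : O.card = ws.length := by
        rw [List.toFinset_card_of_nodup hnd, List.length_map]
      have hO : ∀ y ∈ O, ∃ σ ∈ H ⊓ fixN pre, σ b = y := by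
        intro y hy
        rw [List.mem_toFinset, List.mem_map] at hy
        obtain ⟨w, hw, rfl⟩ := hy
        refine ⟨permW D hD w, ?_, rfl⟩
        rw [Subgroup.mem_inf]
        refine ⟨hH ws List.mem_cons_self w hw, ?_⟩
        intro x hx
        apply Fin.ext
        rw [permW_apply]
        exact s1 w hw x.val hx
      have key := card_ge_stepN H pre b O hO _ ih'
      have e : prodLen (ws :: wss) = ws.length * prodLen wss := by
        unfold prodLen
        rw [List.map_cons, List.prod_cons]
      rw [e, hOc] at *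
      calc ws.length * prodLen wss * Nat.card ↥(H ⊓ fixN (pre ++ β :: bs))
          = ws.length * (prodLen wss * Nat.card ↥(H ⊓ fixN (pre ++ β :: bs))) := by ring
        _ ≤ Nat.card ↥(H ⊓ fixN pre) := key

/-- the order of the subgroup is at least the product of the numbers of words of the levels. -/
theorem card_ge_of_chain (H : Subgroup (Equiv.Perm (Fin D.n))) (bs : List ℕ)
    (wss : List (List (List ℕ))) (hH : ∀ ws ∈ wss, ∀ w ∈ ws, permW D hD w ∈ H)
    (h : chainChk D bs [] wss = true) : prodLen wss ≤ Nat.card ↥H := by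
  have h1 := chain_ge D hD H bs [] wss hH h
  rw [fixN_nil, inf_top_eq, List.nil_append] at h1
  have h2 : 1 ≤ Nat.card ↥(H ⊓ fixN (n := D.n) bs) := Nat.one_le_iff_ne_zero.2 Nat.card_pos.ne'
  calc prodLen wss = prodLen wss * 1 := (Nat.mul_one _).symm
    _ ≤ prodLen wss * Nat.card ↥(H ⊓ fixN (n := D.n) bs) := Nat.mul_le_mul_left _ h2
    _ ≤ Nat.card ↥H := h1

/-- when the order of the subgroup is at most the product of the numbers of words of the levels,
only the neutral element of the subgroup fixes the base. -/
theorem eq_one_of_chain (H : Subgroup (Equiv.Perm (Fin D.n))) (bs : List ℕ)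
    (wss : List (List (List ℕ))) (hH : ∀ ws ∈ wss, ∀ w ∈ ws, permW D hD w ∈ H)
    (h : chainChk D bs [] wss = true) (hle : Nat.card ↥H ≤ prodLen wss)
    {g : Equiv.Perm (Fin D.n)} (hg : g ∈ H) (hfix : ∀ x : Fin D.n, x.val ∈ bs → g x = x) :
    g = 1 := by
  have h1 := chain_ge D hD H bs [] wss hH h
  rw [fixN_nil, inf_top_eq, List.nil_append] at h1
  have hpos : 0 < Nat.card ↥H := Nat.card_pos
  have h2 : Nat.card ↥(H ⊓ fixN (n := D.n) bs) ≤ 1 := by
    by_contra hc
    push Not at hc
    have : prodLen wss * 2 ≤ prodLen wss * Nat.card ↥(H ⊓ fixN (n := D.n) bs) :=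
      Nat.mul_le_mul_left _ hc
    have hp : 0 < prodLen wss := lt_of_lt_of_le hpos hle
    omega
  have h3 : Subsingleton ↥(H ⊓ fixN (n := D.n) bs) :=
    Finite.card_le_one_iff_subsingleton.1 h2
  have hmem : g ∈ H ⊓ fixN (n := D.n) bs := Subgroup.mem_inf.2 ⟨hg, hfix⟩
  have := Subsingleton.elim (⟨g, hmem⟩ : ↥(H ⊓ fixN (n := D.n) bs)) 1
  exact congrArg Subtype.val this

end chain

end Cfsg.Agent.Helper9.OutG

end
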