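import Mathlib
import Cfsg.Agent.Helper9.OutG.Chain

set_option autoImplicit false
set_option Elab.async false

/-!
Consequences of a chain certificate when the order of the subgroup is at most the product of the
numbers of words of the levels: elements agreeing on the base are equal, the images of a base point
under the words of its level are its whole orbit under the stabiliser of the former base points,
and a permutation that cannot be sifted through the levels is not in the subgroup.
-/

noncomputable section

namespace Cfsg.Agent.Helper9.OutG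

open Cfsg.Agent.Helper9.J3 Cfsg.Agent.Helper9.PChain MulAction

variable (D : Dat)

/-- the image of a point under the inverse of a word. -/
def evalI (w : List ℕ) (x : ℕ) : ℕ :=
  List.rec (motive := fun _ => ℕ → ℕ) (fun x => x)
    (fun k _ ih x => sapp ih (T D (ivI D k) x)) w x

theorem evalI_nil (x : ℕ) : evalI D [] x = x := rfl

theorem evalI_cons (k : ℕ) (w : List ℕ) (x : ℕ) :
    evalI D (k :: w) x = evalI D w (T D (ivI D k) x) := by
  change sapp (evalI D w) (T D (ivI D k) x) = _
  rw [sapp_eq]

theorem evalI_eq (w : List ℕ) (x : ℕ) : evalI D w x = evalT D (invW D w) x := by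
  induction w generalizing x with
  | nil => rfl
  | cons k w ih =>
    have e : invW D (k :: w) = invW D w ++ [ivI D k] := by
      unfold invW
      rw [List.map_cons, List.reverse_cons]
    rw [evalI_cons, ih, e, evalT_append, evalT_cons, evalT_nil]

/-- the check that two functions agree on the points of a list. -/
def agreeL (bs : List ℕ) (f g : ℕ → ℕ) : Bool :=
  List.rec true (fun β _ ih => andB (Nat.beq (f β) (g β)) ih) bs

theorem agreeL_true {bs : List ℕ} {f g : ℕ → ℕ} (h : agreeL bs f g = true) :
    ∀ β ∈ bs, f β = g β := by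
  induction bs with
  | nil => intro β hβ; exact absurd hβ List.not_mem_nil
  | cons γ bs ih =>
    have h' : andB (Nat.beq (f γ) (g γ)) (agreeL bs f g) = true := h
    obtain ⟨h1, h2⟩ := andB_true h'
    intro β hβ
    rcases List.mem_cons.1 hβ with rfl | hβ
    · exact Nat.eq_of_beq_eq_true h1
    · exact ih h2 β hβ

section chain

variable (hD : tabOK D)

include hD

/-- elements of the subgroup that agree on the base are equal. -/
theorem eq_of_base (H : Subgroup (Equiv.Perm (Fin D.n))) (bs : List ℕ)
    (wss : List (List (List ℕ))) (hH : ∀ ws ∈ wss, ∀ w ∈ ws, permW D hD w ∈ H)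
    (h : chainChk D bs [] wss = true) (hle : Nat.card ↥H ≤ prodLen wss)
    {g k : Equiv.Perm (Fin D.n)} (hg : g ∈ H) (hk : k ∈ H)
    (hb : ∀ x : Fin D.n, x.val ∈ bs → g x = k x) : g = k := by
  have h1 : k⁻¹ * g = 1 := by
    apply eq_one_of_chain D hD H bs wss hH h hle (H.mul_mem (H.inv_mem hk) hg)
    intro x hx
    rw [Equiv.Perm.mul_apply, hb x hx]
    exact Equiv.Perm.inv_eq_iff_eq.2 rfl
  rw [inv_mul_eq_one] at h1
  exact h1.symm

/-- functions that compute elements of the subgroup and agree on the base compute the same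
element. -/
theorem eq_of_agree (H : Subgroup (Equiv.Perm (Fin D.n))) (bs : List ℕ)
    (wss : List (List (List ℕ))) (hH : ∀ ws ∈ wss, ∀ w ∈ ws, permW D hD w ∈ H)
    (h : chainChk D bs [] wss = true) (hle : Nat.card ↥H ≤ prodLen wss)
    {g k : Equiv.Perm (Fin D.n)} (hg : g ∈ H) (hk : k ∈ H) {f f' : ℕ → ℕ}
    (hf : ∀ x : Fin D.n, (g x).val = f x.val) (hf' : ∀ x : Fin D.n, (k x).val = f' x.val)
    (hb : agreeL bs f f' = true) : g = k := by
  apply eq_of_base D hD H bs wss hH h hle hg hk
  intro x hx
  apply Fin.ext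
  rw [hf, hf']
  exact agreeL_true hb x.val hx

/-- one level of a chain whose product of numbers of words bounds the order from above: the images
of the base point are its whole orbit, and the bound holds for the next stabiliser. -/
theorem level_exact (H : Subgroup (Equiv.Perm (Fin D.n))) (β : ℕ) (bs pre : List ℕ)
    (ws : List (List ℕ)) (wss : List (List (List ℕ)))
    (hH : ∀ ws' ∈ ws :: wss, ∀ w ∈ ws', permW D hD w ∈ H)
    (h : chainChk D (β :: bs) pre (ws :: wss) = true)
    (hle : Nat.card ↥(H ⊓ fixN pre) ≤ prodLen (ws :: wss)) :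
    (∀ g ∈ H ⊓ fixN pre, ∀ hβ : β < D.n, ∃ w ∈ ws, evalT D w β = (g ⟨β, hβ⟩).val) ∧
      Nat.card ↥(H ⊓ fixN (pre ++ [β])) ≤ prodLen wss := by
  rw [chainChk_cons_cons] at h
  obtain ⟨h1, h2⟩ := andB_true h
  obtain ⟨h2, h3⟩ := andB_true h2
  have hβ : β < D.n := ltB_true h1
  obtain ⟨s1, -, s3⟩ := lvlChk_sound D h2
  have hge := chain_ge D hD H bs (pre ++ [β]) wss
    (fun ws' hws' w hw => hH ws' (List.mem_cons_of_mem _ hws') w hw) h3
  have hpos1 : 1 ≤ Nat.card ↥(H ⊓ fixN (n := D.n) ((pre ++ [β]) ++ bs)) :=
    Nat.one_le_iff_ne_zero.2 Nat.card_pos.ne'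
  have hge' : prodLen wss ≤ Nat.card ↥(H ⊓ fixN (n := D.n) (pre ++ [β])) :=
    calc prodLen wss = prodLen wss * 1 := (Nat.mul_one _).symm
      _ ≤ prodLen wss * Nat.card ↥(H ⊓ fixN (n := D.n) ((pre ++ [β]) ++ bs)) :=
        Nat.mul_le_mul_left _ hpos1
      _ ≤ _ := hge
  let b : Fin D.n := ⟨β, hβ⟩
  let f : List ℕ → Fin D.n := fun w => permW D hD w b
  have hf : ∀ w, (f w).val = evalT D w β := fun w => permW_apply D hD w b
  let O : Finset (Fin D.n) := (ws.map f).toFinset
  have hnd : (ws.map f).Nodup := by
    have : (ws.map f).map Fin.val = lvlImg D β ws := by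
      rw [List.map_map]
      apply List.map_congr_left
      intro w _
      exact hf w
    have h4 : ((ws.map f).map Fin.val).Nodup := by rw [this]; exact s3
    exact List.Nodup.of_map _ h4
  have hOc : O.card = ws.length := by
    rw [List.toFinset_card_of_nodup hnd, List.length_map]
  have hsub : (O : Set (Fin D.n)) ⊆ orbit ↥(H ⊓ fixN pre) b := by
    intro y hy
    rw [Finset.mem_coe, List.mem_toFinset, List.mem_map] at hy
    obtain ⟨w, hw, rfl⟩ := hy
    have hmem : permW D hD w ∈ H ⊓ fixN pre := by
      rw [Subgroup.mem_inf]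
      refine ⟨hH ws List.mem_cons_self w hw, ?_⟩
      intro x hx
      apply Fin.ext
      rw [permW_apply]
      exact s1 w hw x.val hx
    exact ⟨⟨permW D hD w, hmem⟩, rfl⟩
  have hcle : O.card ≤ (orbit ↥(H ⊓ fixN pre) b).ncard := by
    calc O.card = (O : Set (Fin D.n)).ncard := (Set.ncard_coe_finset O).symm
      _ ≤ _ := Set.ncard_le_ncard hsub (Set.toFinite _)
  have hchain := card_chainN H pre b
  have e : prodLen (ws :: wss) = ws.length * prodLen wss := by
    unfold prodLen
    rw [List.map_cons, List.prod_cons]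
  rw [e] at hle
  set c := Nat.card ↥(H ⊓ fixN (n := D.n) pre) with hc
  set c' := Nat.card ↥(H ⊓ fixN (n := D.n) (pre ++ [b.val])) with hc'
  set o := (orbit ↥(H ⊓ fixN pre) b).ncard with ho
  have hcpos : 0 < c := Nat.card_pos
  have hc'pos : 0 < c' := Nat.card_pos
  have hwpos : 0 < ws.length := by
    rcases Nat.eq_zero_or_pos ws.length with h0 | h0
    · rw [h0, Nat.zero_mul] at hle
      omega
    · exact h0
  have hge'' : prodLen wss ≤ c' := hge'
  rw [hOc] at hcle
  -- o * c' = c ≤ |ws| * P ≤ |ws| * c'
  have hole : o ≤ ws.length := by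
    have h5 : o * c' ≤ ws.length * c' := by
      calc o * c' = c := hchain.symm
        _ ≤ ws.length * prodLen wss := hle
        _ ≤ ws.length * c' := Nat.mul_le_mul_left _ hge''
    exact Nat.le_of_mul_le_mul_right h5 hc'pos
  have hoeq : o = ws.length := le_antisymm hole hcle
  constructor
  · intro g hg hβ'
    have hOeq : (O : Set (Fin D.n)) = orbit ↥(H ⊓ fixN pre) b := by
      apply Set.eq_of_subset_of_ncard_le hsub _ (Set.toFinite _)
      rw [Set.ncard_coe_finset, hOc, ← hoeq]
    have hgo : g b ∈ orbit ↥(H ⊓ fixN pre) b := ⟨⟨g, hg⟩, rfl⟩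
    rw [← hOeq, Finset.mem_coe, List.mem_toFinset, List.mem_map] at hgo
    obtain ⟨w, hw, hwb⟩ := hgo
    refine ⟨w, hw, ?_⟩
    rw [← hf w, hwb]
  · have h6 : ws.length * c' ≤ ws.length * prodLen wss := by
      calc ws.length * c' = o * c' := by rw [hoeq]
        _ = c := hchain.symm
        _ ≤ _ := hle
    exact Nat.le_of_mul_le_mul_left h6 hwpos

end chain

/-! ### sifting -/

/-- search the words of a level for a word that maps the base point to a given point, and continue
with it; the default answer when there is none. -/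
def findW (β y : ℕ) (ws : List (List ℕ)) (k : List ℕ → Bool) (d : Bool) : Bool :=
  List.rec d (fun w _ ih => Bool.rec ih (k w) (Nat.beq (evalT D w β) y)) ws

theorem findW_cons (β y : ℕ) (w : List ℕ) (ws : List (List ℕ)) (k : List ℕ → Bool) (d : Bool) :
    findW D β y (w :: ws) k d = Bool.rec (findW D β y ws k d) (k w) (Nat.beq (evalT D w β) y) :=
  rfl

theorem findW_true {β y : ℕ} {ws : List (List ℕ)} {k : List ℕ → Bool}
    (hex : ∃ w ∈ ws, evalT D w β = y) (h : findW D β y ws k true = true) :
    ∃ w ∈ ws, evalT D w β = y ∧ k w = true := by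
  induction ws with
  | nil =>
    obtain ⟨w, hw, -⟩ := hex
    exact absurd hw List.not_mem_nil
  | cons u ws ih =>
    rw [findW_cons] at h
    cases hb : Nat.beq (evalT D u β) y
    · rw [hb] at h
      have hex' : ∃ w ∈ ws, evalT D w β = y := by
        obtain ⟨w, hw, hwy⟩ := hex
        rcases List.mem_cons.1 hw with rfl | hw
        · rw [hwy, Nat.beq_refl] at hb
          exact Bool.noConfusion hb
        · exact ⟨w, hw, hwy⟩
      obtain ⟨w, hw, h1, h2⟩ := ih hex' h
      exact ⟨w, List.mem_cons_of_mem _ hw, h1, h2⟩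
    · rw [hb] at h
      exact ⟨u, List.mem_cons_self, Nat.eq_of_beq_eq_true hb, h⟩

/-- the sifting of a function through the levels: the answer is `true` when the function cannot
be that of an element of the subgroup. -/
def siftChk (bs : List ℕ) (wss : List (List (List ℕ))) (f : ℕ → ℕ) : Bool :=
  List.rec (motive := fun _ => List (List (List ℕ)) → (ℕ → ℕ) → Bool)
    (fun _ f => notB (allB (fun x => Nat.beq (f x) x) D.n))
    (fun β _ ih wss f => List.rec false
      (fun ws wss' _ => sapp (fun y => findW D β y ws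
        (fun w => ih wss' (fun x => evalI D w (f x))) true) (f β)) wss)
    bs wss f

theorem siftChk_nil (wss : List (List (List ℕ))) (f : ℕ → ℕ) :
    siftChk D [] wss f = notB (allB (fun x => Nat.beq (f x) x) D.n) := rfl

theorem siftChk_cons (β : ℕ) (bs : List ℕ) (ws : List (List ℕ)) (wss : List (List (List ℕ)))
    (f : ℕ → ℕ) :
    siftChk D (β :: bs) (ws :: wss) f =
      findW D β (f β) ws (fun w => siftChk D bs wss (fun x => evalI D w (f x))) true := by
  change sapp (fun y => findW D β y ws
    (fun w => siftChk D bs wss (fun x => evalI D w (f x))) true) (f β) = _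
  rw [sapp_eq]

theorem allB_of_forall {p : ℕ → Bool} {m : ℕ} (h : ∀ i, i < m → p i = true) :
    allB p m = true := by
  induction m with
  | zero => rfl
  | succ m ih =>
    rw [allB_succ, h m (Nat.lt_succ_self m)]
    exact ih (fun i hi => h i (Nat.lt_succ_of_lt hi))

section sift

variable (hD : tabOK D)

include hD

/-- a permutation computed by a function that cannot be sifted is not in the subgroup. -/
theorem sift_sound (H : Subgroup (Equiv.Perm (Fin D.n))) (bs : List ℕ) :
    ∀ (pre : List ℕ) (wss : List (List (List ℕ))) (f : ℕ → ℕ),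
      (∀ ws ∈ wss, ∀ w ∈ ws, permW D hD w ∈ H) → chainChk D bs pre wss = true →
      Nat.card ↥(H ⊓ fixN pre) ≤ prodLen wss → siftChk D bs wss f = true →
      ∀ g ∈ H ⊓ fixN pre, (∀ x : Fin D.n, (g x).val = f x.val) → False := by
  induction bs with
  | nil =>
    intro pre wss f _ hc hle hs g hg hgf
    cases wss with
    | cons ws wss =>
      rw [chainChk_nil_cons] at hc
      exact absurd hc Bool.false_ne_true
    | nil =>
      have hle' : Nat.card ↥(H ⊓ fixN (n := D.n) pre) ≤ 1 := hle
      have h3 : Subsingleton ↥(H ⊓ fixN (n := D.n) pre) :=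
        Finite.card_le_one_iff_subsingleton.1 hle'
      have h1 := Subsingleton.elim (⟨g, hg⟩ : ↥(H ⊓ fixN (n := D.n) pre)) 1
      have hg1 : g = 1 := congrArg Subtype.val h1
      rw [siftChk_nil] at hs
      have h4 := notB_true hs
      have h5 : allB (fun x => Nat.beq (f x) x) D.n = true := by
        apply allB_of_forall
        intro i hi
        have := hgf ⟨i, hi⟩
        rw [hg1] at this
        change i = f i at this
        change Nat.beq (f i) i = true
        rw [← this, Nat.beq_refl]
      rw [h5] at h4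
      exact Bool.noConfusion h4
  | cons β bs ih =>
    intro pre wss f hH hc hle hs g hg hgf
    cases wss with
    | nil =>
      rw [chainChk_cons_nil] at hc
      exact absurd hc Bool.false_ne_true
    | cons ws wss =>
      obtain ⟨hex, hle'⟩ := level_exact D hD H β bs pre ws wss hH hc hle
      have hc0 := hc
      rw [chainChk_cons_cons] at hc
      obtain ⟨h1, h2⟩ := andB_true hc
      obtain ⟨h2, h3⟩ := andB_true h2
      have hβ : β < D.n := ltB_true h1
      obtain ⟨s1, -, -⟩ := lvlChk_sound D h2
      rw [siftChk_cons] at hs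
      have hex' : ∃ w ∈ ws, evalT D w β = f β := by
        obtain ⟨w, hw, hwβ⟩ := hex g hg hβ
        exact ⟨w, hw, by rw [hwβ]; exact hgf ⟨β, hβ⟩⟩
      obtain ⟨w, hw, hwβ, hk⟩ := findW_true D hex' hs
      have hwH : permW D hD w ∈ H := hH ws List.mem_cons_self w hw
      have hwfix : permW D hD w ∈ fixN (n := D.n) pre := by
        intro x hx
        apply Fin.ext
        rw [permW_apply]
        exact s1 w hw x.val hx
      have hg' : (permW D hD w)⁻¹ * g ∈ H ⊓ fixN (n := D.n) (pre ++ [β]) := by
        rw [Subgroup.mem_inf] at hg ⊢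
        refine ⟨H.mul_mem (H.inv_mem hwH) hg.1, ?_⟩
        have := (mem_fixN_append (n := D.n) pre ⟨β, hβ⟩ ((permW D hD w)⁻¹ * g)).2
        apply this
        constructor
        · exact Subgroup.mul_mem _ (Subgroup.inv_mem _ hwfix) hg.2
        · rw [Equiv.Perm.mul_apply, Equiv.Perm.inv_eq_iff_eq]
          apply Fin.ext
          rw [permW_apply, hgf]
          exact hwβ.symm
      apply ih (pre ++ [β]) wss (fun x => evalI D w (f x))
        (fun ws' hws' u hu => hH ws' (List.mem_cons_of_mem _ hws') u hu) h3 hle' hk _ hg'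
      intro x
      rw [Equiv.Perm.mul_apply, ← permW_invW, permW_apply, evalI_eq, hgf]

/-- a permutation computed by a function that cannot be sifted is not in the subgroup. -/
theorem not_mem_of_sift (H : Subgroup (Equiv.Perm (Fin D.n))) (bs : List ℕ)
    (wss : List (List (List ℕ))) (hH : ∀ ws ∈ wss, ∀ w ∈ ws, permW D hD w ∈ H)
    (h : chainChk D bs [] wss = true) (hle : Nat.card ↥H ≤ prodLen wss) (f : ℕ → ℕ)
    (hs : siftChk D bs wss f = true) (g : Equiv.Perm (Fin D.n))
    (hgf : ∀ x : Fin D.n, (g x).val = f x.val) : g ∉ H := by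
  intro hg
  have hle' : Nat.card ↥(H ⊓ fixN (n := D.n) []) ≤ prodLen wss := by
    rw [fixN_nil, inf_top_eq]
    exact hle
  have hg' : g ∈ H ⊓ fixN (n := D.n) [] := by
    rw [fixN_nil, inf_top_eq]
    exact hg
  exact sift_sound D hD H bs [] wss f hH h hle' hs g hg' hgf

end sift

end Cfsg.Agent.Helper9.OutG

end
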