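import Mathlib
import Cfsg.Agent.Helper9.OutG.Sift

set_option autoImplicit false
set_option Elab.async false

/-!
The group of permutations generated by the letters as a type: functions that compute
permutations, the verified core of the data (tables, defining words, chain), equality of elements
of the group from agreement on the base, and the generation of the group by an element of prime
order and a second element, with an element normalizing the subgroup of prime order.
-/

noncomputable section

namespace Cfsg.Agent.Helper9.OutG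

open Cfsg.Agent.Helper9.J3 Cfsg.Agent.Helper9.PChain MulAction

/-! ### functions that compute permutations -/

/-- a function on numbers computes a permutation. -/
def Comp {n : ℕ} (g : Equiv.Perm (Fin n)) (f : ℕ → ℕ) : Prop := ∀ x : Fin n, (g x).val = f x.val

theorem Comp.one {n : ℕ} : Comp (1 : Equiv.Perm (Fin n)) (fun x => x) := fun _ => rfl

theorem Comp.mul {n : ℕ} {g k : Equiv.Perm (Fin n)} {f f' : ℕ → ℕ} (hg : Comp g f)
    (hk : Comp k f') : Comp (g * k) (fun x => f (f' x)) := by
  intro x
  rw [Equiv.Perm.mul_apply, hg, hk]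

theorem Comp.eq_of_all {n : ℕ} {g k : Equiv.Perm (Fin n)} {f f' : ℕ → ℕ} (hg : Comp g f)
    (hk : Comp k f') (h : allB (fun x => Nat.beq (f x) (f' x)) n = true) : g = k := by
  apply Equiv.ext
  intro x
  apply Fin.ext
  rw [hg, hk]
  exact Nat.eq_of_beq_eq_true (allB_true h x.isLt)

theorem Comp.all_of_eq {n : ℕ} {g k : Equiv.Perm (Fin n)} {f f' : ℕ → ℕ} (hg : Comp g f)
    (hk : Comp k f') (h : g = k) {x : ℕ} (hx : x < n) : f x = f' x := by
  have h1 := hg ⟨x, hx⟩
  have h2 := hk ⟨x, hx⟩
  rw [h] at h1
  rw [← h1, ← h2]

/-- the iterate of a function. -/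
def powF (f : ℕ → ℕ) (e x : ℕ) : ℕ := Nat.rec x (fun _ acc => f acc) e

theorem Comp.pow {n : ℕ} {g : Equiv.Perm (Fin n)} {f : ℕ → ℕ} (hg : Comp g f) (e : ℕ) :
    Comp (g ^ e) (powF f e) := by
  induction e with
  | zero => exact fun _ => rfl
  | succ e ih =>
    intro x
    rw [pow_succ', Equiv.Perm.mul_apply, hg, ih]
    rfl

/-! ### the verified core -/

/-- the data of a chain: the base and the words of the levels. -/
structure ChainD where
  /-- the base. -/
  bs : List ℕ
  /-- the words of the levels. -/
  wss : List (List (List ℕ))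

/-- the verified core of the data: the tables, the defining words, the chain, and the product of
the numbers of words of the levels. -/
structure Core (D : Dat) (C : ChainD) (N : ℕ) : Prop where
  /-- the tables are permutations. -/
  tab : tabOK D
  /-- the defining words are good. -/
  dw : dwOK D
  /-- the chain is good. -/
  chain : chainChk D C.bs [] C.wss = true
  /-- the product of the numbers of words of the levels. -/
  plen : prodLen C.wss = N

variable {D : Dat} {C : ChainD} {N : ℕ} (h : Core D C N)

/-- the group as a subgroup of the permutations. -/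
abbrev GS : Subgroup (Equiv.Perm (Fin D.n)) := grp D h.tab

/-- the element of a table. -/
def gE (k : ℕ) : ↥(GS h) := ⟨El D h.tab k, El_mem D h.tab h.dw k⟩

/-- the element of a word. -/
def gW (w : List ℕ) : ↥(GS h) := ⟨permW D h.tab w, permW_mem D h.tab h.dw w⟩

theorem comp_gE (k : ℕ) : Comp (gE h k).1 (T D k) := fun _ => rfl

theorem comp_gW (w : List ℕ) : Comp (gW h w).1 (evalT D w) := fun x => permW_apply D h.tab w x

theorem gW_nil : gW h [] = 1 := rfl

theorem gW_cons (k : ℕ) (w : List ℕ) : gW h (k :: w) = gE h k * gW h w :=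
  Subtype.ext (permW_cons D h.tab k w)

theorem gW_append (u w : List ℕ) : gW h (u ++ w) = gW h u * gW h w :=
  Subtype.ext (permW_append D h.tab u w)

theorem gW_single (k : ℕ) : gW h [k] = gE h k := Subtype.ext (permW_single D h.tab k)

theorem gW_inv (w : List ℕ) : (gW h w)⁻¹ = gW h (invW D w) :=
  Subtype.ext (permW_invW D h.tab w).symm

theorem comp_gW_inv (w : List ℕ) : Comp ((gW h w)⁻¹).1 (evalI D w) := by
  rw [gW_inv]
  intro x
  rw [comp_gW h (invW D w) x, evalI_eq]

theorem gE_inv (k : ℕ) : (gE h k)⁻¹ = gE h (ivI D k) := Subtype.ext (El_iv D h.tab k).symm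

theorem gE_eq_gW {k : ℕ} (hk : k < D.K) (hL : ¬ k < D.L) :
    gE h k = gW h (dwOf D k) ∧ ∀ l ∈ dwOf D k, l < k := by
  obtain ⟨e, hlt⟩ := El_eq_permW D h.tab h.dw hk hL
  exact ⟨Subtype.ext e, hlt⟩

theorem gE_ge {k : ℕ} (hk : ¬ k < D.K) : gE h k = 1 := Subtype.ext (El_ge D h.tab hk)

theorem Comp.coe_mul {x y : ↥(GS h)} {f f' : ℕ → ℕ} (hx : Comp x.1 f) (hy : Comp y.1 f') :
    Comp (x * y).1 (fun z => f (f' z)) := Comp.mul hx hy

theorem Comp.coe_pow {x : ↥(GS h)} {f : ℕ → ℕ} (hx : Comp x.1 f) (e : ℕ) :
    Comp (x ^ e).1 (powF f e) := by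
  rw [Subgroup.coe_pow]
  exact Comp.pow hx e

theorem words_mem : ∀ ws ∈ C.wss, ∀ w ∈ ws, permW D h.tab w ∈ GS h :=
  fun _ _ w _ => permW_mem D h.tab h.dw w

/-- the order of the group is at least the product of the numbers of words of the levels. -/
theorem card_ge : N ≤ Nat.card ↥(GS h) := by
  have h1 := card_ge_of_chain D h.tab (GS h) C.bs C.wss (words_mem h) h.chain
  have h2 := h.plen
  omega

/-- elements of the group whose functions agree on the base are equal. -/
theorem eq_of_agreeL (hN : Nat.card ↥(GS h) = N) {x y : ↥(GS h)} {f f' : ℕ → ℕ}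
    (hx : Comp x.1 f) (hy : Comp y.1 f') (hb : agreeL C.bs f f' = true) : x = y := by
  apply Subtype.ext
  refine eq_of_agree D h.tab (GS h) C.bs C.wss (words_mem h) h.chain ?_ x.2 y.2 hx hy hb
  rw [hN, h.plen]

/-- elements of the group whose functions agree everywhere are equal. -/
theorem eq_of_allB {x y : ↥(GS h)} {f f' : ℕ → ℕ}
    (hx : Comp x.1 f) (hy : Comp y.1 f') (hb : allB (fun z => Nat.beq (f z) (f' z)) D.n = true) :
    x = y := Subtype.ext (Comp.eq_of_all hx hy hb)

/-- an element of the group whose function moves a point is not the neutral element. -/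
theorem ne_one_of_move {x : ↥(GS h)} {f : ℕ → ℕ} (hx : Comp x.1 f) {z : ℕ} (hz : z < D.n)
    (hm : Nat.beq (f z) z = false) : x ≠ 1 := by
  intro h1
  have h2 := hx ⟨z, hz⟩
  rw [h1] at h2
  change z = f z at h2
  rw [← h2, Nat.beq_refl] at hm
  exact Bool.noConfusion hm

/-! ### generation -/

/-- the data of the generation: the prime, the exponent of the normalizing element, the tables of
the element of prime order, of the second generator and of the normalizing element, the first of
the tables of the powers, the first of the tables derived from the two generators, the words of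
the letters in these tables, and a point moved by the element of prime order. -/
structure GenD where
  /-- the prime. -/
  p : ℕ
  /-- the exponent of the normalizing element. -/
  r : ℕ
  /-- the table of the element of prime order. -/
  iA : ℕ
  /-- the table of the second generator. -/
  iB : ℕ
  /-- the table of the normalizing element. -/
  iN : ℕ
  /-- the first of the tables of the powers. -/
  iP : ℕ
  /-- the first of the tables derived from the two generators. -/
  M : ℕ
  /-- the words of the letters. -/
  lw : List (List ℕ)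
  /-- a point moved by the element of prime order. -/
  mv : ℕ

variable (E : GenD)

/-- the check that a letter of a word is one of the tables of the generators or a later table
below a bound. -/
def abL (D : Dat) (E : GenD) (k l : ℕ) : Bool :=
  orB (Nat.beq l E.iA) (orB (Nat.beq l (ivI D E.iA)) (orB (Nat.beq l E.iB)
    (andB (Nat.ble E.M l) (ltB l k))))

/-- the check that the letters of a word are tables of the generators or later tables below a
bound. -/
def abW (D : Dat) (E : GenD) (k : ℕ) (w : List ℕ) : Bool :=
  List.rec true (fun l _ ih => andB (abL D E k l) ih) w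

theorem abW_true {D : Dat} {E : GenD} {k : ℕ} {w : List ℕ} (hw : abW D E k w = true) :
    ∀ l ∈ w, abL D E k l = true := by
  induction w with
  | nil => intro l hl; exact absurd hl List.not_mem_nil
  | cons m w ih =>
    have h' : andB (abL D E k m) (abW D E k w) = true := hw
    obtain ⟨h1, h2⟩ := andB_true h'
    intro l hl
    rcases List.mem_cons.1 hl with rfl | hl
    · exact h1
    · exact ih h2 l hl

/-- the image of a point under a power of the element of prime order. -/
def pwT (D : Dat) (E : GenD) (i x : ℕ) : ℕ := T D (Nat.add E.iP i) x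

/-- the check of the generation. -/
structure GenOK (D : Dat) (E : GenD) : Prop where
  /-- the letters are before the derived tables. -/
  hLM : D.L ≤ E.M
  /-- the derived tables are derived from the generators. -/
  hab : allB (fun k => orB (ltB k E.M) (abW D E k (dwOf D k))) D.K = true
  /-- the letters are words in the derived tables. -/
  hlw : allB (fun l => andB (abW D E D.K (nthW E.lw l))
    (allB (fun x => Nat.beq (T D l x) (evalT D (nthW E.lw l) x)) D.n)) D.L = true
  /-- the tables of the powers. -/
  hpw : allB (fun i => allB (fun x => Nat.beq (T D E.iA (pwT D E i x))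
    (pwT D E (Nat.mod (Nat.succ i) E.p) x)) D.n) E.p = true
  /-- the table of the power with exponent zero. -/
  hp0 : allB (fun x => Nat.beq (pwT D E 0 x) x) D.n = true
  /-- the element of prime order is not the neutral element. -/
  hmv : andB (ltB E.mv D.n) (notB (Nat.beq (T D E.iA E.mv) E.mv)) = true
  /-- the normalizing element. -/
  hnm : allB (fun x => Nat.beq (T D E.iN (T D E.iA x)) (pwT D E (Nat.mod E.r E.p) (T D E.iN x)))
    D.n = true

variable {E} (hE : GenOK D E)

include hE

/-- the powers of the element of prime order. -/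
theorem gE_pow {i : ℕ} (hi : i < E.p) : gE h E.iA ^ i = gE h (E.iP + i) := by
  induction i with
  | zero =>
    rw [pow_zero]
    symm
    exact eq_of_allB h (comp_gE h _) Comp.one hE.hp0
  | succ i ih =>
    rw [pow_succ', ih (by omega)]
    have h1 := allB_true hE.hpw (show i < E.p by omega)
    have e : Nat.mod (Nat.succ i) E.p = i + 1 := Nat.mod_eq_of_lt hi
    rw [e] at h1
    exact eq_of_allB h (Comp.coe_mul h (comp_gE h _) (comp_gE h _)) (comp_gE h _) h1

theorem gE_pow_p (hp : 0 < E.p) : gE h E.iA ^ E.p = 1 := by
  obtain ⟨q, hq⟩ : ∃ q, E.p = q + 1 := ⟨E.p - 1, by omega⟩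
  rw [hq, pow_succ', gE_pow h hE (by omega)]
  have h1 := allB_true hE.hpw (show q < E.p by omega)
  have e : Nat.mod (Nat.succ q) E.p = 0 := by
    change (q + 1) % E.p = 0
    rw [← hq]
    exact Nat.mod_self _
  rw [e] at h1
  have h2 : gE h E.iA * gE h (E.iP + q) = gE h (E.iP + 0) :=
    eq_of_allB h (Comp.coe_mul h (comp_gE h _) (comp_gE h _)) (comp_gE h _) h1
  rw [h2]
  exact eq_of_allB h (comp_gE h _) Comp.one hE.hp0

theorem gE_iA_ne_one : gE h E.iA ≠ 1 := by
  obtain ⟨h1, h2⟩ := andB_true hE.hmv
  exact ne_one_of_move h (comp_gE h _) (ltB_true h1) (notB_true h2)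

/-- the order of the element of prime order. -/
theorem orderOf_gE_iA [hp : Fact E.p.Prime] : orderOf (gE h E.iA) = E.p :=
  orderOf_eq_prime (gE_pow_p h hE hp.out.pos) (gE_iA_ne_one h hE)

/-- the normalizing element. -/
theorem conj_gE_iN [hp : Fact E.p.Prime] :
    gE h E.iN * gE h E.iA * (gE h E.iN)⁻¹ = gE h E.iA ^ E.r := by
  rw [mul_inv_eq_iff_eq_mul, ← pow_mod_orderOf, orderOf_gE_iA h hE,
    gE_pow h hE (Nat.mod_lt _ hp.out.pos)]
  exact eq_of_allB h (Comp.coe_mul h (comp_gE h _) (comp_gE h _))
    (Comp.coe_mul h (comp_gE h _) (comp_gE h _)) hE.hnm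

/-- the subgroup generated by the two generators. -/
abbrev HAB : Subgroup ↥(GS h) := Subgroup.closure ({gE h E.iA, gE h E.iB} : Set ↥(GS h))

omit hE in
theorem gW_mem_HAB (w : List ℕ) (hw : ∀ l ∈ w, gE h l ∈ HAB h (E := E)) :
    gW h w ∈ HAB h (E := E) := by
  induction w with
  | nil => exact Subgroup.one_mem _
  | cons k w ih =>
    rw [gW_cons]
    exact Subgroup.mul_mem _ (hw k List.mem_cons_self)
      (ih (fun l hl => hw l (List.mem_cons_of_mem _ hl)))

/-- the derived tables are in the subgroup generated by the two generators. -/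
theorem gE_mem_HAB (k : ℕ) (l : ℕ) (hl : abL D E k l = true) : gE h l ∈ HAB h (E := E) := by
  induction k using Nat.strong_induction_on generalizing l with
  | _ k ih =>
    rcases orB_true hl with h1 | h1
    · rw [Nat.eq_of_beq_eq_true h1]
      exact Subgroup.subset_closure (by simp)
    rcases orB_true h1 with h1 | h1
    · rw [Nat.eq_of_beq_eq_true h1, ← gE_inv]
      exact Subgroup.inv_mem _ (Subgroup.subset_closure (by simp))
    rcases orB_true h1 with h1 | h1
    · rw [Nat.eq_of_beq_eq_true h1]
      exact Subgroup.subset_closure (by simp)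
    obtain ⟨h2, h3⟩ := andB_true h1
    have hMl : E.M ≤ l := Nat.le_of_ble_eq_true h2
    have hlk : l < k := ltB_true h3
    by_cases hK : l < D.K
    · have hL : ¬ l < D.L := by
        have := hE.hLM
        omega
      obtain ⟨e, -⟩ := gE_eq_gW h hK hL
      rw [e]
      rcases orB_true (allB_true hE.hab hK) with h4 | h4
      · exact absurd (ltB_true h4) (by omega)
      · apply gW_mem_HAB h
        intro m hm
        exact ih l hlk m (abW_true h4 m hm)
    · rw [gE_ge h hK]
      exact Subgroup.one_mem _

/-- the group is generated by the two generators. -/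
theorem closure_ab : HAB h (E := E) = ⊤ := by
  rw [eq_top_iff]
  rintro ⟨x, hx⟩ -
  have key : ∀ l : ℕ, l < D.L → gE h l ∈ HAB h (E := E) := by
    intro l hl
    obtain ⟨h1, h2⟩ := andB_true (allB_true hE.hlw hl)
    have e : gE h l = gW h (nthW E.lw l) := eq_of_allB h (comp_gE h _) (comp_gW h _) h2
    rw [e]
    apply gW_mem_HAB h
    intro m hm
    exact gE_mem_HAB h hE D.K m (abW_true h1 m hm)
  refine Subgroup.closure_induction
    (p := fun y hy => (⟨y, hy⟩ : ↥(GS h)) ∈ HAB h (E := E)) ?_ ?_ ?_ ?_ hx
  · rintro y ⟨l, rfl⟩
    exact key l.val l.isLt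
  · exact Subgroup.one_mem _
  · intro y z hy hz h1 h2
    exact Subgroup.mul_mem _ h1 h2
  · intro y hy h1
    exact Subgroup.inv_mem _ h1

end Cfsg.Agent.Helper9.OutG

end
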