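import Mathlib
import Cfsg.Agent.Helper9.OutG.Grp

set_option autoImplicit false

/-!
Counting, along the chain, the elements of a group of permutations given by tables that conjugate
one permutation to another: the count of the leaves of a search that is pruned by the images of the
base points.
-/

noncomputable section

namespace Cfsg.Agent.Helper9.OutG

open Cfsg.Agent.Helper9.J3 Cfsg.Agent.Helper9.PChain MulAction

variable (D : Dat)

theorem agreeL_of {bs : List ℕ} {f g : ℕ → ℕ} (h : ∀ β ∈ bs, f β = g β) :
    agreeL bs f g = true := by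
  induction bs with
  | nil => rfl
  | cons γ bs ih =>
    change andB (Nat.beq (f γ) (g γ)) (agreeL bs f g) = true
    rw [ih (fun β hβ => h β (List.mem_cons_of_mem _ hβ)), h γ List.mem_cons_self]
    have e : Nat.beq (g γ) (g γ) = true := Nat.beq_refl _
    rw [e]
    rfl

/-- the value of a permutation at a number. -/
def valOf (g : Equiv.Perm (Fin D.n)) (p : ℕ) : ℕ := if hp : p < D.n then (g ⟨p, hp⟩).val else p

theorem valOf_val (g : Equiv.Perm (Fin D.n)) (x : Fin D.n) : valOf D g x.val = (g x).val := by
  unfold valOf
  rw [dif_pos x.isLt]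

/-- the test of the images of the first base points: where the first permutation maps a base
point to a base point, the images are related by the second permutation. -/
def prRel (yf' : ℕ → ℕ) (rel : List (ℕ × ℕ)) (imgs : List ℕ) : Bool :=
  rel.all fun p => !(decide (p.1 < imgs.length) && decide (p.2 < imgs.length)) ||
    (imgs.getD p.2 0 == yf' (imgs.getD p.1 0))

/-- the check of the pairs of base points that the first permutation relates. -/
def relChk (yf : ℕ → ℕ) (bs : List ℕ) (rel : List (ℕ × ℕ)) : Bool :=
  rel.all fun p => decide (p.1 < bs.length) && decide (p.2 < bs.length) &&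
    (yf (bs.getD p.1 0) == bs.getD p.2 0)

/-- the number of the leaves of the search. -/
def cntN (yf yf' : ℕ → ℕ) (allbs : List ℕ) (rel : List (ℕ × ℕ)) :
    List ℕ → List (List (List ℕ)) → List ℕ → List ℕ → ℕ
  | [], [], u, _ =>
    if agreeL allbs (fun x => evalT D u (yf x)) (fun x => yf' (evalT D u x)) = true then 1 else 0
  | β :: bs, ws :: wss, u, imgs =>
    (ws.map (fun w => if prRel yf' rel (imgs ++ [evalT D u (evalT D w β)]) = true then
      cntN yf yf' allbs rel bs wss (u ++ w) (imgs ++ [evalT D u (evalT D w β)]) else 0)).sum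
  | [], _ :: _, _, _ => 0
  | _ :: _, [], _, _ => 0

theorem ncard_le_sum_of_subset {α ι : Type*} [Finite α] (l : List ι) (A : ι → Set α) (c : ι → ℕ)
    (S : Set α) (hS : ∀ x ∈ S, ∃ i ∈ l, x ∈ A i) (hc : ∀ i ∈ l, (A i).ncard ≤ c i) :
    S.ncard ≤ (l.map c).sum := by
  induction l generalizing S with
  | nil =>
    have : S = ∅ := by
      ext x
      constructor
      · intro hx
        obtain ⟨i, hi, -⟩ := hS x hx
        exact absurd hi List.not_mem_nil
      · intro hx
        exact absurd hx (Set.notMem_empty x)
    rw [this, Set.ncard_empty]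
    exact Nat.zero_le _
  | cons j l ih =>
    rw [List.map_cons, List.sum_cons]
    have h1 : S ⊆ A j ∪ (S \ A j) := by
      intro x hx
      by_cases h : x ∈ A j
      · exact Or.inl h
      · exact Or.inr ⟨hx, h⟩
    have h2 := ih (S \ A j) (by
      rintro x ⟨hx, hnx⟩
      obtain ⟨i, hi, hxi⟩ := hS x hx
      rcases List.mem_cons.1 hi with rfl | hi
      · exact absurd hxi hnx
      · exact ⟨i, hi, hxi⟩) (fun i hi => hc i (List.mem_cons_of_mem _ hi))
    calc S.ncard ≤ (A j ∪ (S \ A j)).ncard := Set.ncard_le_ncard h1 (Set.toFinite _)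
      _ ≤ (A j).ncard + (S \ A j).ncard := Set.ncard_union_le _ _
      _ ≤ c j + (l.map c).sum := Nat.add_le_add (hc j List.mem_cons_self) h2

section sound

variable (hD : tabOK D) (H : Subgroup (Equiv.Perm (Fin D.n)))
  (y y' : Equiv.Perm (Fin D.n)) (yf yf' : ℕ → ℕ) (hy : Comp y yf) (hy' : Comp y' yf')
  (allbs : List ℕ) (hbs : ∀ b ∈ allbs, b < D.n) (rel : List (ℕ × ℕ))
  (hrel : relChk yf allbs rel = true)

/-- the elements below a node of the search. -/
def nodeSet (pre u : List ℕ) : Set (Equiv.Perm (Fin D.n)) :=
  {g | g ∈ H ∧ g * y = y' * g ∧ (permW D hD u)⁻¹ * g ∈ fixN (n := D.n) pre}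

include hy hy' hbs hrel in
theorem pr_sound (g : Equiv.Perm (Fin D.n)) (hg : g * y = y' * g) (pre suf : List ℕ)
    (hpre : allbs = pre ++ suf) : prRel yf' rel (pre.map (valOf D g)) = true := by
  unfold prRel
  rw [List.all_eq_true]
  intro p hp
  unfold relChk at hrel
  rw [List.all_eq_true] at hrel
  have h1 := hrel p hp
  simp only [Bool.and_eq_true, decide_eq_true_eq, beq_iff_eq] at h1
  obtain ⟨⟨l1, l2⟩, h3⟩ := h1
  rw [Bool.or_eq_true]
  by_cases hl : p.1 < (pre.map (valOf D g)).length ∧ p.2 < (pre.map (valOf D g)).length
  · right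
    obtain ⟨m1, m2⟩ := hl
    rw [beq_iff_eq]
    have n1 : p.1 < pre.length := by rwa [List.length_map] at m1
    have n2 : p.2 < pre.length := by rwa [List.length_map] at m2
    rw [List.getD_eq_getElem _ _ m1, List.getD_eq_getElem _ _ m2, List.getElem_map,
      List.getElem_map]
    rw [List.getD_eq_getElem _ _ l1, List.getD_eq_getElem _ _ l2] at h3
    have e1 : pre[p.1] = allbs[p.1] := by
      subst hpre
      rw [List.getElem_append_left n1]
    have e2 : pre[p.2] = allbs[p.2] := by
      subst hpre
      rw [List.getElem_append_left n2]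
    rw [e1, e2, ← h3]
    have b1 : allbs[p.1] < D.n := hbs _ (List.getElem_mem _)
    have k := congrArg (fun σ : Equiv.Perm (Fin D.n) => (σ ⟨allbs[p.1], b1⟩).val) hg
    simp only [Equiv.Perm.mul_apply] at k
    rw [hy' (g ⟨allbs[p.1], b1⟩)] at k
    have k2 : (y ⟨allbs[p.1], b1⟩) = ⟨yf allbs[p.1], by rw [← hy ⟨allbs[p.1], b1⟩]; exact Fin.isLt _⟩ :=
      Fin.ext (hy ⟨allbs[p.1], b1⟩)
    rw [k2] at k
    rw [← valOf_val D g ⟨yf allbs[p.1], _⟩, ← valOf_val D g ⟨allbs[p.1], b1⟩] at k
    exact k
  · left
    rw [Bool.not_eq_true', Bool.and_eq_false_iff]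
    rw [not_and_or] at hl
    rcases hl with hl | hl
    · exact Or.inl (decide_eq_false hl)
    · exact Or.inr (decide_eq_false hl)

include hy hy' hbs hrel in
theorem node_le : ∀ (bsS : List ℕ) (wssS : List (List (List ℕ))) (pre u : List ℕ),
    (∀ ws ∈ wssS, ∀ w ∈ ws, permW D hD w ∈ H) →
    chainChk D bsS pre wssS = true →
    Nat.card ↥(H ⊓ fixN (n := D.n) pre) ≤ prodLen wssS →
    allbs = pre ++ bsS →
    permW D hD u ∈ H →
    (nodeSet D hD H y y' pre u).ncard ≤
      cntN D yf yf' allbs rel bsS wssS u (pre.map (evalT D u)) := by
  intro bsS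
  induction bsS with
  | nil =>
    intro wssS pre u hH hch hle hall hu
    cases wssS with
    | cons ws wss =>
      rw [chainChk_nil_cons] at hch
      exact absurd hch Bool.false_ne_true
    | nil =>
      rw [List.append_nil] at hall
      subst hall
      have hle1 : Nat.card ↥(H ⊓ fixN (n := D.n) allbs) ≤ 1 := hle
      have hsub : Subsingleton ↥(H ⊓ fixN (n := D.n) allbs) :=
        Finite.card_le_one_iff_subsingleton.1 hle1
      have hkey : ∀ g ∈ nodeSet D hD H y y' allbs u, g = permW D hD u := by
        rintro g ⟨g1, -, g3⟩
        have hmem : (permW D hD u)⁻¹ * g ∈ H ⊓ fixN (n := D.n) allbs :=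
          Subgroup.mem_inf.2 ⟨H.mul_mem (H.inv_mem hu) g1, g3⟩
        have := Subsingleton.elim (⟨_, hmem⟩ : ↥(H ⊓ fixN (n := D.n) allbs)) 1
        have h1 : (permW D hD u)⁻¹ * g = 1 := congrArg Subtype.val this
        rw [inv_mul_eq_one] at h1
        exact h1.symm
      change _ ≤ (if agreeL allbs (fun x => evalT D u (yf x)) (fun x => yf' (evalT D u x)) = true
        then 1 else 0)
      split_ifs with hc
      · have hss : nodeSet D hD H y y' allbs u ⊆ {permW D hD u} := fun g hg => hkey g hg
        calc _ ≤ ({permW D hD u} : Set (Equiv.Perm (Fin D.n))).ncard :=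
              Set.ncard_le_ncard hss (Set.toFinite _)
          _ = 1 := Set.ncard_singleton _
      · have hem : nodeSet D hD H y y' allbs u = ∅ := by
          ext g
          constructor
          · intro hg
            exfalso
            apply hc
            have e := hkey g hg
            obtain ⟨-, g2, -⟩ := hg
            rw [e] at g2
            apply agreeL_of
            intro b hb
            have hb' : b < D.n := hbs b hb
            have k := congrArg (fun σ : Equiv.Perm (Fin D.n) => (σ ⟨b, hb'⟩).val) g2
            simp only [Equiv.Perm.mul_apply] at k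
            rw [permW_apply, hy, hy', permW_apply] at k
            exact k
          · intro hg
            exact absurd hg (Set.notMem_empty g)
        rw [hem, Set.ncard_empty]
  | cons β bsS ih =>
    intro wssS pre u hH hch hle hall hu
    cases wssS with
    | nil =>
      rw [chainChk_cons_nil] at hch
      exact absurd hch Bool.false_ne_true
    | cons ws wss =>
      obtain ⟨ex, hle'⟩ := level_exact D hD H β bsS pre ws wss hH hch hle
      rw [chainChk_cons_cons] at hch
      obtain ⟨c1, c2⟩ := andB_true hch
      obtain ⟨c2, c3⟩ := andB_true c2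
      have hβ : β < D.n := ltB_true c1
      obtain ⟨s1, -, -⟩ := lvlChk_sound D c2
      have hall' : allbs = (pre ++ [β]) ++ bsS := by
        rw [hall, List.append_assoc, List.singleton_append]
      change _ ≤ (ws.map (fun w => if prRel yf' rel (pre.map (evalT D u) ++
        [evalT D u (evalT D w β)]) = true then
        cntN D yf yf' allbs rel bsS wss (u ++ w) (pre.map (evalT D u) ++
        [evalT D u (evalT D w β)]) else 0)).sum
      apply ncard_le_sum_of_subset ws (fun w => nodeSet D hD H y y' (pre ++ [β]) (u ++ w))
      · rintro g ⟨g1, g2, g3⟩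
        have hmem : (permW D hD u)⁻¹ * g ∈ H ⊓ fixN (n := D.n) pre :=
          Subgroup.mem_inf.2 ⟨H.mul_mem (H.inv_mem hu) g1, g3⟩
        obtain ⟨w, hw, e⟩ := ex _ hmem hβ
        refine ⟨w, hw, g1, g2, ?_⟩
        rw [permW_append, mul_inv_rev, mul_assoc]
        have hwfix : ∀ x : Fin D.n, x.val ∈ pre → permW D hD w x = x := by
          intro x hx
          apply Fin.ext
          rw [permW_apply]
          exact s1 w hw x.val hx
        rw [mem_fixN_append pre ⟨β, hβ⟩]
        constructor
        · intro x hx
          rw [Equiv.Perm.mul_apply, g3 x hx, Equiv.Perm.inv_eq_iff_eq]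
          exact (hwfix x hx).symm
        · rw [Equiv.Perm.mul_apply, Equiv.Perm.inv_eq_iff_eq]
          apply Fin.ext
          rw [permW_apply]
          exact e.symm
      · intro w hw
        have hu' : permW D hD (u ++ w) ∈ H := by
          rw [permW_append]
          exact H.mul_mem hu (hH ws List.mem_cons_self w hw)
        have e : (pre ++ [β]).map (evalT D (u ++ w)) =
            pre.map (evalT D u) ++ [evalT D u (evalT D w β)] := by
          rw [List.map_append, List.map_singleton, evalT_append]
          congr 1
          apply List.map_congr_left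
          intro p hp
          rw [evalT_append, s1 w hw p hp]
        by_cases hp : prRel yf' rel (pre.map (evalT D u) ++ [evalT D u (evalT D w β)]) = true
        · rw [if_pos hp]
          have := ih wss (pre ++ [β]) (u ++ w)
            (fun ws' hws' => hH ws' (List.mem_cons_of_mem _ hws')) c3 hle' hall' hu'
          rw [e] at this
          exact this
        · rw [if_neg hp]
          have hem : nodeSet D hD H y y' (pre ++ [β]) (u ++ w) = ∅ := by
            ext g
            constructor
            · rintro ⟨g1, g2, g3⟩
              exfalso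
              apply hp
              rw [← e]
              have hps := pr_sound D y y' yf yf' hy hy' allbs hbs rel hrel g g2 (pre ++ [β]) bsS
                hall'
              have e2 : (pre ++ [β]).map (valOf D g) = (pre ++ [β]).map (evalT D (u ++ w)) := by
                apply List.map_congr_left
                intro p hp
                have hp' : p < D.n := hbs p (by rw [hall']; exact List.mem_append_left _ hp)
                have h4 := g3 ⟨p, hp'⟩ hp
                rw [Equiv.Perm.mul_apply, Equiv.Perm.inv_eq_iff_eq] at h4
                have h5 := congrArg Fin.val h4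
                rw [permW_apply] at h5
                have h6 := valOf_val D g ⟨p, hp'⟩
                rw [h5] at h6
                exact h6
              rw [← e2]
              exact hps
            · intro hg
              exact absurd hg (Set.notMem_empty g)
          rw [hem, Set.ncard_empty]

end sound

/-- the number of the elements of the group that conjugate one element to another is at most the
number of the leaves of the search. -/
theorem card_conj_le {C : ChainD} {N : ℕ} (h : Core D C N) (hN : Nat.card ↥(GS h) = N)
    (y y' : ↥(GS h)) (yf yf' : ℕ → ℕ) (hy : Comp y.1 yf) (hy' : Comp y'.1 yf')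
    (hbs : ∀ b ∈ C.bs, b < D.n) (rel : List (ℕ × ℕ)) (hrel : relChk yf C.bs rel = true) :
    {g : ↥(GS h) | g * y = y' * g}.ncard ≤ cntN D yf yf' C.bs rel C.bs C.wss [] [] := by
  have h1 := node_le D h.tab (GS h) y.1 y'.1 yf yf' hy hy' C.bs hbs rel hrel C.bs C.wss [] []
    (fun ws _ w _ => permW_mem D h.tab h.dw w) h.chain (by
      rw [fixN_nil, inf_top_eq, hN, h.plen]) (List.nil_append _).symm (GS h).one_mem
  refine le_trans ?_ h1
  rw [← Set.ncard_image_of_injective _ Subtype.val_injective]
  apply Set.ncard_le_ncard _ (Set.toFinite _)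
  rintro _ ⟨g, hg, rfl⟩
  refine ⟨g.2, ?_, ?_⟩
  · have := congrArg Subtype.val hg
    exact this
  · rw [fixN_nil]
    exact Subgroup.mem_top _

end Cfsg.Agent.Helper9.OutG

end
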