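import Mathlib
import Cfsg.Agent.Helper9.OutG.Grp
import Cfsg.Agent.Helper9.F3O.Abs

set_option autoImplicit false
set_option Elab.async false

/-!
A subgroup of order a power of two given by a chain of tables, each normalizing the subgroup
generated by the former ones with its square in it: its elements in normal form, its order, its
centre, and the image of the first generator under an automorphism.
-/

noncomputable section

namespace Cfsg.Agent.Helper9.OutG

open Cfsg.Agent.Helper9.J3 Cfsg.Agent.Helper9.PChain Cfsg.Agent.Helper9.HeO MulAction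

/-- the entry of a list of numbers with a given index. -/
def nthN (l : List ℕ) (i : ℕ) : ℕ :=
  List.rec (motive := fun _ => ℕ → ℕ) (fun _ => 0)
    (fun w _ ih i => Nat.rec w (fun i' _ => ih i') i) l i

/-- the check that a number is in a list. -/
def memN (l : ℕ) (L : List ℕ) : Bool := List.rec false (fun m _ ih => orB (Nat.beq l m) ih) L

theorem memN_true {l : ℕ} {L : List ℕ} (h : memN l L = true) : l ∈ L := by
  induction L with
  | nil => exact absurd h Bool.false_ne_true
  | cons m L ih =>
    have h' : orB (Nat.beq l m) (memN l L) = true := h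
    rcases orB_true h' with h1 | h1
    · rw [Nat.eq_of_beq_eq_true h1]
      exact List.mem_cons_self
    · exact List.mem_cons_of_mem _ (ih h1)

theorem nthN_mem {L : List ℕ} {i : ℕ} (hi : i < L.length) : nthN L i ∈ L := by
  induction L generalizing i with
  | nil => exact absurd hi (Nat.not_lt_zero _)
  | cons m L ih =>
    cases i with
    | zero => exact List.mem_cons_self
    | succ i =>
      exact List.mem_cons_of_mem _ (ih (Nat.lt_of_succ_lt_succ hi))

theorem exists_nthN {L : List ℕ} {l : ℕ} (hl : l ∈ L) : ∃ i, i < L.length ∧ nthN L i = l := by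
  induction L with
  | nil => exact absurd hl List.not_mem_nil
  | cons m L ih =>
    rcases List.mem_cons.1 hl with rfl | hl
    · exact ⟨0, Nat.succ_pos _, rfl⟩
    · obtain ⟨i, hi, e⟩ := ih hl
      exact ⟨i + 1, Nat.succ_lt_succ hi, e⟩

/-- the check that the letters of a word are in a list. -/
def memW (L : List ℕ) (w : List ℕ) : Bool := List.rec true (fun l _ ih => andB (memN l L) ih) w

theorem memW_true {L w : List ℕ} (h : memW L w = true) : ∀ l ∈ w, l ∈ L := by
  induction w with
  | nil => intro l hl; exact absurd hl List.not_mem_nil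
  | cons l0 w ih =>
    have h' : andB (memN l0 L) (memW L w) = true := h
    obtain ⟨h1, h2⟩ := andB_true h'
    intro l hl
    rcases List.mem_cons.1 hl with rfl | hl
    · exact memN_true h1
    · exact ih h2 l hl

/-- the check that the letters of the words of a level are in a list. -/
def memWs (L : List ℕ) (ws : List (List ℕ)) : Bool :=
  List.rec true (fun w _ ih => andB (memW L w) ih) ws

theorem memWs_true {L : List ℕ} {ws : List (List ℕ)} (h : memWs L ws = true) :
    ∀ w ∈ ws, ∀ l ∈ w, l ∈ L := by
  induction ws with
  | nil => intro w hw; exact absurd hw List.not_mem_nil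
  | cons w0 ws ih =>
    have h' : andB (memW L w0) (memWs L ws) = true := h
    obtain ⟨h1, h2⟩ := andB_true h'
    intro w hw
    rcases List.mem_cons.1 hw with rfl | hw
    · exact memW_true h1
    · exact ih h2 w hw

/-- the check that the letters of the words of the levels are in a list. -/
def memWss (L : List ℕ) (wss : List (List (List ℕ))) : Bool :=
  List.rec true (fun ws _ ih => andB (memWs L ws) ih) wss

theorem memWss_true {L : List ℕ} {wss : List (List (List ℕ))} (h : memWss L wss = true) :
    ∀ ws ∈ wss, ∀ w ∈ ws, ∀ l ∈ w, l ∈ L := by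
  induction wss with
  | nil => intro ws hws; exact absurd hws List.not_mem_nil
  | cons ws0 wss ih =>
    have h' : andB (memWs L ws0) (memWss L wss) = true := h
    obtain ⟨h1, h2⟩ := andB_true h'
    intro ws hws
    rcases List.mem_cons.1 hws with rfl | hws
    · exact memWs_true h1
    · exact ih h2 ws hws

/-- the data of the subgroup: the tables of the generators, the packed codes of the conjugates and
of the squares with their width and mask, the odd part of the order of the group, the chain of the
subgroup, and the packed witnesses with their width, mask, and the shift and mask of the index of a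
leaf. -/
structure SylD where
  /-- the tables of the generators. -/
  tI : List ℕ
  /-- the width of a code. -/
  kw : ℕ
  /-- the mask of a code. -/
  kmsk : ℕ
  /-- the packed codes of the conjugates. -/
  relN : ℕ
  /-- the packed codes of the squares. -/
  sqN : ℕ
  /-- the odd part of the order of the group. -/
  odd : ℕ
  /-- the chain of the subgroup. -/
  sC : ChainD
  /-- the width of a witness. -/
  ww : ℕ
  /-- the mask of a witness. -/
  wmsk : ℕ
  /-- the shift of the index of a leaf. -/
  ws : ℕ
  /-- the mask of the index in a leaf. -/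
  wsm : ℕ
  /-- the packed witnesses. -/
  wit : NTree

variable {D : Dat} {C : ChainD} {N : ℕ} (h : Core D C N) (S : SylD)

/-- the number of generators. -/
abbrev SylD.k (S : SylD) : ℕ := S.tI.length

/-- the image of a point under a generator. -/
def tF (D : Dat) (S : SylD) (j x : ℕ) : ℕ := T D (nthN S.tI j) x

/-- a generator of the subgroup. -/
def tE (j : ℕ) : ↥(GS h) := gE h (nthN S.tI j)

theorem comp_tE (j : ℕ) : Comp (tE h S j).1 (tF D S j) := comp_gE h _

/-- the image of a point under a normal form. -/
def nfF (D : Dat) (S : SylD) (m e x : ℕ) : ℕ :=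
  Nat.rec x (fun j acc => Bool.rec acc (tF D S j acc) (bitT e j)) m

theorem nfF_succ (m e x : ℕ) :
    nfF D S (m + 1) e x = Bool.rec (nfF D S m e x) (tF D S m (nfF D S m e x)) (bitT e m) := rfl

/-- the normal form as an element of the group. -/
def nfG (m e : ℕ) : ↥(GS h) := nfE (tE h S) m e

theorem comp_nfG (m e : ℕ) : Comp (nfG h S m e).1 (nfF D S m e) := by
  induction m with
  | zero => exact fun _ => rfl
  | succ m ih =>
    intro x
    unfold nfG
    rw [nfE_succ, nfF_succ]
    cases hb : bitT e m
    · rw [if_neg (by simp), one_mul]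
      exact ih x
    · rw [if_pos rfl, Subgroup.coe_mul, Equiv.Perm.mul_apply, comp_tE h S m]
      have := ih x
      unfold nfG at this
      rw [this]

/-- the code of the conjugate of a generator by a later generator. -/
def relc (S : SylD) (m j : ℕ) : ℕ := lkF S.kw S.kmsk S.relN (Nat.add (Nat.mul S.k m) j)

/-- the code of the square of a generator. -/
def sqc (S : SylD) (m : ℕ) : ℕ := lkF S.kw S.kmsk S.sqN m

/-- the check of the conjugates and of the square of a generator on the base. -/
def sylRelChk (D : Dat) (C : ChainD) (S : SylD) (m : ℕ) : Bool :=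
  andB (allB (fun j => sapp (fun c => agreeL C.bs (fun x => tF D S m (tF D S j x))
      (fun x => nfF D S m c (tF D S m x))) (relc S m j)) m)
    (sapp (fun c => agreeL C.bs (fun x => tF D S m (tF D S m x)) (nfF D S m c)) (sqc S m))

/-- the packed witness of a normal form. -/
def witOf (S : SylD) (e : ℕ) : ℕ :=
  lkF S.ww S.wmsk (tget S.wit (Nat.shiftRight e S.ws)) (Nat.land e S.wsm)

/-- the check of the witness of a normal form: it does not commute with a generator. -/
def witChk (D : Dat) (S : SylD) (e : ℕ) : Bool :=
  orB (Nat.ble e 1) (sapp (fun wv => sapp (fun j => sapp (fun z =>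
    andB (ltB j S.k) (andB (ltB z D.n)
      (notB (Nat.beq (nfF D S S.k e (tF D S j z)) (tF D S j (nfF D S S.k e z))))))
    (Nat.shiftRight wv 5)) (Nat.land wv 31)) (witOf S e))

/-- the checks of the subgroup. -/
structure SylOK (D : Dat) (C : ChainD) (N : ℕ) (S : SylD) : Prop where
  /-- the conjugates and the squares. -/
  hrel : allB (sylRelChk D C S) S.k = true
  /-- the order of the group. -/
  hodd : N = 2 ^ S.k * S.odd ∧ S.odd % 2 = 1
  /-- the chain of the subgroup. -/
  hch : chainChk D S.sC.bs [] S.sC.wss = true
  /-- the product of the numbers of words of the levels. -/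
  hpl : prodLen S.sC.wss = 2 ^ S.k
  /-- the letters of the words of the chain are generators. -/
  hlt : memWss S.tI S.sC.wss = true
  /-- the first generator commutes with the generators. -/
  hcm : allB (fun j => agreeL C.bs (fun x => tF D S 0 (tF D S j x))
    (fun x => tF D S j (tF D S 0 x))) S.k = true
  /-- the first generator moves a point. -/
  hmv : notB (allB (fun x => Nat.beq (tF D S 0 x) x) D.n) = true
  /-- there is a generator. -/
  hk : 0 < S.k
  /-- the witnesses. -/
  hwit : ∀ e, e < 2 ^ S.k → witChk D S e = true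

variable {S} (hS : SylOK D C N S) (hN : Nat.card ↥(GS h) = N)

include hS hN

theorem tE_rel {m j : ℕ} (hm : m < S.k) (hj : j < m) :
    tE h S m * tE h S j = nfG h S m (relc S m j) * tE h S m := by
  have h1 := allB_true (andB_true (allB_true hS.hrel hm)).1 hj
  rw [sapp_eq] at h1
  exact eq_of_agreeL h hN (Comp.coe_mul h (comp_tE h S m) (comp_tE h S j))
    (Comp.coe_mul h (comp_nfG h S m _) (comp_tE h S m)) h1

theorem tE_sq {m : ℕ} (hm : m < S.k) : tE h S m * tE h S m = nfG h S m (sqc S m) := by
  have h1 := (andB_true (allB_true hS.hrel hm)).2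
  rw [sapp_eq] at h1
  exact eq_of_agreeL h hN (Comp.coe_mul h (comp_tE h S m) (comp_tE h S m))
    (comp_nfG h S m _) h1

/-- the subgroups of the chain. -/
abbrev SH (m : ℕ) : Subgroup ↥(GS h) := chainH (tE h S) m

theorem mem_SH {m : ℕ} (hm : m ≤ S.k) {x : ↥(GS h)} (hx : x ∈ SH h (S := S) m) :
    ∃ e, e < 2 ^ m ∧ x = nfG h S m e := by
  refine mem_chain (tE h S) m ?_ x hx
  intro m' hm'
  constructor
  · intro j hj
    have e : tE h S m' * tE h S j * (tE h S m')⁻¹ = nfG h S m' (relc S m' j) := by
      rw [tE_rel h hS hN (by omega) hj, mul_inv_cancel_right]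
    rw [e]
    exact nfE_mem (tE h S) m' _
  · rw [tE_sq h hS hN (by omega)]
    exact nfE_mem (tE h S) m' _

omit hS hN in
theorem tE_mem {j : ℕ} (hj : j < S.k) : tE h S j ∈ SH h (S := S) S.k :=
  Subgroup.subset_closure ⟨j, hj, rfl⟩

theorem card_SH_le : Nat.card (SH h (S := S) S.k) ≤ 2 ^ S.k := by
  let f : Fin (2 ^ S.k) → SH h (S := S) S.k := fun e => ⟨nfG h S S.k e.val, nfE_mem _ _ _⟩
  have hf : Function.Surjective f := by
    rintro ⟨x, hx⟩
    obtain ⟨e, he, rfl⟩ := mem_SH h hS hN le_rfl hx
    exact ⟨⟨e, he⟩, rfl⟩
  have := Nat.card_le_card_of_surjective f hf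
  rwa [Nat.card_fin] at this

omit hN in
theorem card_SH_ge : 2 ^ S.k ≤ Nat.card (SH h (S := S) S.k) := by
  have hwm : ∀ ws ∈ S.sC.wss, ∀ w ∈ ws,
      permW D h.tab w ∈ (SH h (S := S) S.k).map (GS h).subtype := by
    intro ws hws w hw
    have hl := memWss_true hS.hlt ws hws w hw
    have : gW h w ∈ SH h (S := S) S.k := by
      clear hw
      induction w with
      | nil => exact Subgroup.one_mem _
      | cons l w ih =>
        rw [gW_cons]
        refine Subgroup.mul_mem _ ?_ (ih (fun l' hl' => hl l' (List.mem_cons_of_mem _ hl')))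
        obtain ⟨i, hi, e⟩ := exists_nthN (hl l List.mem_cons_self)
        have : gE h l = tE h S i := by
          unfold tE
          rw [e]
        rw [this]
        exact tE_mem h hi
    exact ⟨gW h w, this, rfl⟩
  have h1 := card_ge_of_chain D h.tab ((SH h (S := S) S.k).map (GS h).subtype) S.sC.bs S.sC.wss
    hwm hS.hch
  rw [hS.hpl, Subgroup.card_map_of_injective (Subgroup.subtype_injective _)] at h1
  exact h1

/-- the order of the subgroup. -/
theorem card_SH : Nat.card (SH h (S := S) S.k) = 2 ^ S.k :=
  le_antisymm (card_SH_le h hS hN) (card_SH_ge h hS)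

theorem factorization_two_card : (Nat.card ↥(GS h)).factorization 2 = S.k := by
  rw [hN, hS.hodd.1]
  have hodd : ¬ 2 ∣ S.odd := by
    have := hS.hodd.2
    omega
  have h0 : S.odd ≠ 0 := by
    have := hS.hodd.2
    omega
  rw [Nat.factorization_mul (by positivity) h0]
  simp only [Finsupp.coe_add, Pi.add_apply]
  rw [Nat.factorization_eq_zero_of_not_dvd hodd, Nat.factorization_pow]
  simp [Nat.Prime.factorization_self Nat.prime_two]

/-- the first generator commutes with the elements of the subgroup. -/
theorem tE_zero_comm {y : ↥(GS h)} (hy : y ∈ SH h (S := S) S.k) :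
    tE h S 0 * y = y * tE h S 0 := by
  refine Subgroup.closure_induction (p := fun y _ => tE h S 0 * y = y * tE h S 0) ?_ ?_ ?_ ?_ hy
  · rintro y ⟨j, hj, rfl⟩
    exact eq_of_agreeL h hN (Comp.coe_mul h (comp_tE h S 0) (comp_tE h S j))
      (Comp.coe_mul h (comp_tE h S j) (comp_tE h S 0)) (allB_true hS.hcm hj)
  · rw [mul_one, one_mul]
  · intro y z _ _ h1 h2
    rw [← mul_assoc, h1, mul_assoc, h2, mul_assoc]
  · intro y _ h1
    exact (show Commute (tE h S 0) y from h1).inv_right.eq

omit hN in
theorem tE_zero_ne_one : tE h S 0 ≠ 1 := by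
  intro h1
  have h2 := notB_true hS.hmv
  have h3 : allB (fun x => Nat.beq (tF D S 0 x) x) D.n = true := by
    apply allB_of_forall
    intro i hi
    have := comp_tE h S 0 ⟨i, hi⟩
    rw [h1] at this
    change i = tF D S 0 i at this
    change Nat.beq (tF D S 0 i) i = true
    rw [← this, Nat.beq_refl]
  rw [h3] at h2
  exact Bool.noConfusion h2

omit hS hN in
theorem nfG_zero_code (m : ℕ) : nfG h S m 0 = 1 := by
  induction m with
  | zero => rfl
  | succ m ih =>
    unfold nfG at ih ⊢
    rw [nfE_succ, ih, bitT_eq, Nat.zero_testBit]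
    simp

omit hS hN in
theorem nfG_one_code {m : ℕ} (hm : 0 < m) : nfG h S m 1 = tE h S 0 := by
  induction m with
  | zero => omega
  | succ m ih =>
    unfold nfG at ih ⊢
    rw [nfE_succ]
    rcases Nat.eq_zero_or_pos m with rfl | hm'
    · have : bitT 1 0 = true := rfl
      rw [this]
      have e0 : nfE (tE h S) 0 1 = 1 := rfl
      rw [e0]
      simp
    · rw [ih hm', bitT_eq]
      have : Nat.testBit 1 m = false := by
        apply Nat.testBit_lt_two_pow
        exact Nat.one_lt_two_pow (by omega)
      rw [this]
      simp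

/-- the elements of the centre of the subgroup. -/
theorem center_cases {x : ↥(GS h)} (hx : x ∈ SH h (S := S) S.k)
    (hc : ∀ y ∈ SH h (S := S) S.k, x * y = y * x) : x = 1 ∨ x = tE h S 0 := by
  obtain ⟨e, he, rfl⟩ := mem_SH h hS hN le_rfl hx
  rcases orB_true (hS.hwit e he) with h1 | h1
  · have he1 : e ≤ 1 := Nat.le_of_ble_eq_true h1
    interval_cases e
    · exact Or.inl (nfG_zero_code h _)
    · exact Or.inr (nfG_one_code h hS.hk)
  · exfalso
    rw [sapp_eq, sapp_eq, sapp_eq] at h1
    obtain ⟨h2, h3⟩ := andB_true h1
    obtain ⟨h3, h4⟩ := andB_true h3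
    have hj := ltB_true h2
    have hz := ltB_true h3
    have h5 := hc _ (tE_mem h hj)
    have h6 := Comp.all_of_eq (Comp.coe_mul h (comp_nfG h S S.k e) (comp_tE h S _))
      (Comp.coe_mul h (comp_tE h S _) (comp_nfG h S S.k e)) (congrArg Subtype.val h5) hz
    have h7 := notB_true h4
    rw [h6, Nat.beq_refl] at h7
    exact Bool.noConfusion h7

/-- every automorphism maps the first generator to a conjugate of it. -/
theorem aut_conj_tE [Finite ↥(GS h)] (β : MulAut ↥(GS h)) :
    ∃ g : ↥(GS h), g * tE h S 0 * g⁻¹ = β (tE h S 0) := by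
  refine Cfsg.Agent.Helper9.F3O.aut_conj_of_center_inv (SH h (S := S) S.k) ?_ (tE h S 0)
    (tE_mem h hS.hk) (tE_zero_ne_one h hS) (fun y hy => tE_zero_comm h hS hN hy)
    (fun _ => True) (fun _ => trivial) ?_ β
  · rw [card_SH h hS hN, factorization_two_card h hS hN]
  · intro x hx hc _
    exact center_cases h hS hN hx hc

end Cfsg.Agent.Helper9.OutG

end
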