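import Mathlib
import Cfsg.Agent.Helper9.OutG.Norm
import Cfsg.Agent.Helper9.OutG.Syl

set_option autoImplicit false

/-!
The count of the leaves of the search for the conjugating elements, written with bare recursors for
the kernel, and its agreement with the count of the definition by cases.
-/

noncomputable section

namespace Cfsg.Agent.Helper9.OutG

open Cfsg.Agent.Helper9.J3 Cfsg.Agent.Helper9.PChain MulAction

variable (D : Dat)

theorem nthN_eq_getD (l : List ℕ) (i : ℕ) : nthN l i = l.getD i 0 := by
  induction l generalizing i with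
  | nil => simp [nthN]
  | cons w l ih =>
    cases i with
    | zero => rfl
    | succ i =>
      change nthN l i = _
      rw [ih]
      rfl

/-- the test of the images of the first base points, the images being listed from the last. -/
def prR (yf' : ℕ → ℕ) (rel : List (ℕ × ℕ)) (len : ℕ) (imgsR : List ℕ) : Bool :=
  List.rec true (fun p _ ih => andB (orB (notB (andB (ltB p.1 len) (ltB p.2 len)))
    (Nat.beq (nthN imgsR (Nat.sub (Nat.sub len 1) p.2))
      (yf' (nthN imgsR (Nat.sub (Nat.sub len 1) p.1))))) ih) rel

theorem prR_cons (yf' : ℕ → ℕ) (p : ℕ × ℕ) (rel : List (ℕ × ℕ)) (len : ℕ) (imgsR : List ℕ) :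
    prR yf' (p :: rel) len imgsR = andB (orB (notB (andB (ltB p.1 len) (ltB p.2 len)))
      (Nat.beq (nthN imgsR (Nat.sub (Nat.sub len 1) p.2))
        (yf' (nthN imgsR (Nat.sub (Nat.sub len 1) p.1))))) (prR yf' rel len imgsR) := rfl

theorem getD_reverse (imgs : List ℕ) {i : ℕ} (hi : i < imgs.length) :
    imgs.reverse.getD (imgs.length - 1 - i) 0 = imgs.getD i 0 := by
  have h1 : imgs.length - 1 - i < imgs.reverse.length := by
    rw [List.length_reverse]
    omega
  rw [List.getD_eq_getElem _ _ h1, List.getD_eq_getElem _ _ hi, List.getElem_reverse]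
  congr 1
  omega

theorem andB_eq (a b : Bool) : andB a b = (a && b) := by cases a <;> rfl

theorem orB_eq (a b : Bool) : orB a b = (a || b) := by cases a <;> rfl

theorem notB_eq (a : Bool) : notB a = !a := by cases a <;> rfl

theorem ltB_eq (a b : ℕ) : ltB a b = decide (a < b) := by
  by_cases h : a < b
  · rw [decide_eq_true h]
    exact Nat.ble_eq_true_of_le h
  · rw [decide_eq_false h]
    cases hb : ltB a b
    · rfl
    · exact absurd (ltB_true hb) h

theorem nbeq_eq (a b : ℕ) : Nat.beq a b = (a == b) := by
  by_cases h : a = b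
  · subst h
    rw [Nat.beq_refl, beq_self_eq_true]
  · have : (a == b) = false := beq_eq_false_iff_ne.2 h
    rw [this]
    cases hb : Nat.beq a b
    · rfl
    · exact absurd (Nat.eq_of_beq_eq_true hb) h

theorem prR_eq (yf' : ℕ → ℕ) (rel : List (ℕ × ℕ)) (imgs : List ℕ) :
    prR yf' rel imgs.length imgs.reverse = prRel yf' rel imgs := by
  induction rel with
  | nil => rfl
  | cons p rel ih =>
    rw [prR_cons, ih]
    unfold prRel
    rw [List.all_cons, andB_eq, orB_eq, notB_eq, andB_eq, ltB_eq, ltB_eq, nbeq_eq, nthN_eq_getD,
      nthN_eq_getD]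
    by_cases h1 : p.1 < imgs.length
    · by_cases h2 : p.2 < imgs.length
      · have e3 := getD_reverse imgs h1
        have e4 := getD_reverse imgs h2
        change imgs.reverse.getD (Nat.sub (Nat.sub imgs.length 1) p.1) 0 = _ at e3
        change imgs.reverse.getD (Nat.sub (Nat.sub imgs.length 1) p.2) 0 = _ at e4
        rw [e3, e4]
      · rw [decide_eq_false h2]
        simp
    · rw [decide_eq_false h1]
      simp

/-- the sum over the words of a level. -/
def stepF (yf' : ℕ → ℕ) (rel : List (ℕ × ℕ)) (β : ℕ)
    (nxt : (ℕ → ℕ) → ℕ → List ℕ → ℕ) (fu : ℕ → ℕ) (len : ℕ) (imgsR : List ℕ)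
    (ws : List (List ℕ)) : ℕ :=
  List.rec (motive := fun _ => ℕ) 0
    (fun w _ acc => Nat.add (sapp (fun z => Bool.rec 0
      (nxt (fun x => fu (evalT D w x)) (Nat.succ len) (z :: imgsR))
      (prR yf' rel (Nat.succ len) (z :: imgsR))) (fu (evalT D w β))) acc) ws

/-- the number of the leaves of the search, as the kernel computes it. -/
def cntF (yf yf' : ℕ → ℕ) (allbs : List ℕ) (rel : List (ℕ × ℕ)) (bs : List ℕ) :
    List (List (List ℕ)) → (ℕ → ℕ) → ℕ → List ℕ → ℕ :=
  List.rec (motive := fun _ => List (List (List ℕ)) → (ℕ → ℕ) → ℕ → List ℕ → ℕ)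
    (fun wss fu _ _ => List.rec (motive := fun _ => ℕ)
      (Bool.rec 0 1 (agreeL allbs (fun x => fu (yf x)) (fun x => yf' (fu x))))
      (fun _ _ _ => 0) wss)
    (fun β _ ih wss fu len imgsR => List.rec (motive := fun _ => ℕ) 0
      (fun ws wss' _ => stepF D yf' rel β (ih wss') fu len imgsR ws) wss) bs

theorem cntF_eq (yf yf' : ℕ → ℕ) (allbs : List ℕ) (rel : List (ℕ × ℕ)) :
    ∀ (bs : List ℕ) (wss : List (List (List ℕ))) (u : List ℕ) (fu : ℕ → ℕ) (imgs : List ℕ),
      (∀ x, fu x = evalT D u x) →
      cntF D yf yf' allbs rel bs wss fu imgs.length imgs.reverse =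
        cntN D yf yf' allbs rel bs wss u imgs := by
  intro bs
  induction bs with
  | nil =>
    intro wss u fu imgs hfu
    cases wss with
    | nil =>
      have e : fu = evalT D u := funext hfu
      change Bool.rec 0 1 (agreeL allbs (fun x => fu (yf x)) (fun x => yf' (fu x))) =
        (if agreeL allbs (fun x => evalT D u (yf x)) (fun x => yf' (evalT D u x)) = true
          then 1 else 0)
      rw [e]
      cases agreeL allbs (fun x => evalT D u (yf x)) (fun x => yf' (evalT D u x))
      · rfl
      · rfl
    | cons ws wss => rfl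
  | cons β bs ih =>
    intro wss u fu imgs hfu
    cases wss with
    | nil => rfl
    | cons ws wss =>
      change stepF D yf' rel β (cntF D yf yf' allbs rel bs wss) fu imgs.length imgs.reverse ws =
        (ws.map (fun w => if prRel yf' rel (imgs ++ [evalT D u (evalT D w β)]) = true then
          cntN D yf yf' allbs rel bs wss (u ++ w) (imgs ++ [evalT D u (evalT D w β)]) else 0)).sum
      induction ws with
      | nil => rfl
      | cons w ws ihw =>
        rw [List.map_cons, List.sum_cons, ← ihw]
        change Nat.add (sapp (fun z => Bool.rec 0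
          (cntF D yf yf' allbs rel bs wss (fun x => fu (evalT D w x)) (Nat.succ imgs.length)
            (z :: imgs.reverse))
          (prR yf' rel (Nat.succ imgs.length) (z :: imgs.reverse))) (fu (evalT D w β)))
          (stepF D yf' rel β (cntF D yf yf' allbs rel bs wss) fu imgs.length imgs.reverse ws) = _
        rw [sapp_eq, hfu]
        have e1 : (imgs ++ [evalT D u (evalT D w β)]).reverse =
            evalT D u (evalT D w β) :: imgs.reverse := by
          rw [List.reverse_append]
          rfl
        have e2 : (imgs ++ [evalT D u (evalT D w β)]).length = Nat.succ imgs.length := by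
          rw [List.length_append]
          rfl
        rw [← e1, ← e2, prR_eq]
        have hfu' : ∀ x, (fun x => fu (evalT D w x)) x = evalT D (u ++ w) x := by
          intro x
          change fu (evalT D w x) = _
          rw [hfu, evalT_append]
        rw [ih wss (u ++ w) (fun x => fu (evalT D w x)) (imgs ++ [evalT D u (evalT D w β)]) hfu']
        cases prRel yf' rel (imgs ++ [evalT D u (evalT D w β)])
        · rfl
        · rfl

end Cfsg.Agent.Helper9.OutG

end
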