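import Mathlib
import Cfsg.Agent.Helper9.OutG.NormF
import Cfsg.Agent.Helper9.OutG.Syl

set_option autoImplicit false

/-!
The certificate of a type of cyclic subgroups of a group of permutations given by tables: a table
of a given order, the tables of its powers, the number of the points that it moves, and a bound for
the number of the elements that normalize its powers.
-/

noncomputable section

namespace Cfsg.Agent.Helper9.OutG

open Cfsg.Agent.Helper9.J3 Cfsg.Agent.Helper9.PChain MulAction

/-- the data of a type. -/
structure TypeD where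
  /-- the table of the element. -/
  ky : ℕ
  /-- the order. -/
  o : ℕ
  /-- the tables of the powers. -/
  ks : List ℕ
  /-- the pairs of base points that the element relates. -/
  rel : List (ℕ × ℕ)
  /-- the number of the points moved. -/
  sup : ℕ
  /-- the bound for the normalizing elements. -/
  nu : ℕ

variable (D : Dat)

/-- the number of the points moved by a table. -/
def supCnt (k : ℕ) : ℕ := sumF (fun x => Bool.rec 1 0 (Nat.beq (T D k x) x)) D.n

/-- the checks of a type. -/
structure TypeOK (C : ChainD) (t : TypeD) : Prop where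
  /-- the order is positive. -/
  hpos : 0 < t.o
  /-- the tables of the powers. -/
  hpw : allB (fun j => allB (fun x => Nat.beq (T D (nthN t.ks j) x) (powF (T D t.ky) j x)) D.n)
    t.o = true
  /-- the power with the order as exponent. -/
  hone : allB (fun x => Nat.beq (powF (T D t.ky) t.o x) x) D.n = true
  /-- the smaller powers. -/
  hne : allB (fun m => orB (Nat.beq m 0)
    (notB (allB (fun x => Nat.beq (powF (T D t.ky) m x) x) D.n))) t.o = true
  /-- the related base points. -/
  hrel : relChk (T D t.ky) C.bs t.rel = true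
  /-- the count. -/
  hcnt : Nat.ble (sumF (fun j => ifz (Nat.sub (Nat.gcd j t.o) 1)
    (cntF D (T D t.ky) (T D (nthN t.ks j)) C.bs t.rel C.bs C.wss (fun x => x) 0 []) 0) t.o)
    t.nu = true
  /-- the points moved. -/
  hsup : Nat.beq (supCnt D t.ky) t.sup = true

variable {D} {C : ChainD} {N : ℕ} (h : Core D C N) (hN : Nat.card ↥(GS h) = N)
  (hbs : ∀ b ∈ C.bs, b < D.n) {t : TypeD} (ht : TypeOK D C t)

include ht in
theorem type_pow {j : ℕ} (hj : j < t.o) : gE h t.ky ^ j = gE h (nthN t.ks j) := by
  apply Subtype.ext
  rw [Subgroup.coe_pow]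
  apply Comp.eq_of_all ((comp_gE h t.ky).pow j) (comp_gE h (nthN t.ks j))
  apply allB_of_forall
  intro x hx
  have := Nat.eq_of_beq_eq_true (allB_true (allB_true ht.hpw hj) hx)
  rw [this]
  exact Nat.beq_refl _

include ht in
theorem type_order : orderOf (gE h t.ky) = t.o := by
  rw [orderOf_eq_iff ht.hpos]
  constructor
  · apply Subtype.ext
    rw [Subgroup.coe_pow]
    apply Comp.eq_of_all ((comp_gE h t.ky).pow t.o) Comp.one
    exact ht.hone
  · intro m hm h0 hcon
    rcases orB_true (allB_true ht.hne hm) with h1 | h1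
    · have := Nat.eq_of_beq_eq_true h1
      omega
    · have h2 := notB_true h1
      have h3 : allB (fun x => Nat.beq (powF (T D t.ky) m x) x) D.n = true := by
        apply allB_of_forall
        intro x hx
        have h4 := Comp.all_of_eq ((comp_gE h t.ky).pow m) Comp.one
          (by rw [← Subgroup.coe_pow, hcon]; rfl) hx
        change Nat.beq (powF (T D t.ky) m x) x = true
        rw [h4]
        exact Nat.beq_refl _
      rw [h2] at h3
      exact Bool.false_ne_true h3

theorem sumF_indicator (p : ℕ → Bool) (m : ℕ) :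
    sumF (fun x => Bool.rec 1 0 (p x)) m = ((Finset.range m).filter (fun x => p x = false)).card := by
  induction m with
  | zero => rfl
  | succ m ih =>
    rw [sumF_succ, ih, Finset.range_add_one, Finset.filter_insert]
    cases hp : p m
    · rw [if_pos rfl, Finset.card_insert_of_notMem (by simp)]
      change 1 + _ = _
      omega
    · rw [if_neg (by simp)]
      change 0 + _ = _
      omega

include ht in
theorem type_support : ((gE h t.ky).1).support.card = t.sup := by
  have h1 := Nat.eq_of_beq_eq_true ht.hsup
  rw [← h1]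
  unfold supCnt
  rw [sumF_indicator]
  apply Finset.card_bij (fun (x : Fin D.n) _ => x.val)
  · intro x hx
    rw [Equiv.Perm.mem_support] at hx
    rw [Finset.mem_filter, Finset.mem_range]
    refine ⟨x.isLt, ?_⟩
    cases hb : Nat.beq (T D t.ky x.val) x.val
    · rfl
    · exfalso
      apply hx
      apply Fin.ext
      rw [comp_gE h t.ky x]
      exact Nat.eq_of_beq_eq_true hb
  · intro x _ x' _ hxx
    exact Fin.ext hxx
  · intro v hv
    rw [Finset.mem_filter, Finset.mem_range] at hv
    refine ⟨⟨v, hv.1⟩, ?_, rfl⟩
    rw [Equiv.Perm.mem_support]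
    intro hcon
    have h2 := congrArg Fin.val hcon
    rw [comp_gE h t.ky ⟨v, hv.1⟩] at h2
    have h3 : Nat.beq (T D t.ky v) v = true := by
      have h2' : T D t.ky v = v := h2
      rw [h2']
      exact Nat.beq_refl _
    rw [hv.2] at h3
    exact Bool.false_ne_true h3

include ht in
theorem type_coprime {g : ↥(GS h)} {j : ℕ} (hg : g * gE h t.ky = gE h t.ky ^ j * g) :
    Nat.Coprime j t.o := by
  have ho := type_order h ht
  have e : gE h t.ky ^ j = g * gE h t.ky * g⁻¹ := by
    rw [hg]
    group
  have e2 : orderOf (gE h t.ky ^ j) = t.o := by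
    rw [e, ← ho]
    exact (MulAut.conj g).orderOf_eq (gE h t.ky)
  by_cases hj0 : j = 0
  · subst hj0
    rw [pow_zero, orderOf_one] at e2
    rw [← e2]
    exact Nat.coprime_one_right 0
  · rw [orderOf_pow' _ hj0, ho] at e2
    have hd : Nat.gcd t.o j ∣ t.o := Nat.gcd_dvd_left _ _
    have h3 := Nat.div_mul_cancel hd
    rw [e2] at h3
    have h4 : Nat.gcd t.o j = 1 := by
      have h5 : t.o * Nat.gcd t.o j = t.o * 1 := by rw [h3, Nat.mul_one]
      exact Nat.eq_of_mul_eq_mul_left ht.hpos h5
    rw [Nat.Coprime, Nat.gcd_comm]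
    exact h4

include hN hbs ht in
theorem type_norm : {g : ↥(GS h) | ∃ j : ℕ, j < t.o ∧ g * gE h t.ky = gE h t.ky ^ j * g}.ncard
    ≤ t.nu := by
  have : Finite ↥(GS h) := inferInstance
  refine le_trans ?_ (Nat.le_of_ble_eq_true ht.hcnt)
  rw [sumF_eq]
  apply ncard_le_sum_of_subset (List.range t.o)
    (fun j => {g : ↥(GS h) | Nat.Coprime j t.o ∧ g * gE h t.ky = gE h (nthN t.ks j) * g})
  · rintro g ⟨j, hj, hg⟩
    refine ⟨j, List.mem_range.2 hj, type_coprime h ht hg, ?_⟩
    rw [type_pow h ht hj] at hg
    exact hg
  · intro j _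
    by_cases hc : Nat.Coprime j t.o
    · have e : Nat.sub (Nat.gcd j t.o) 1 = 0 := by
        rw [Nat.Coprime] at hc
        rw [hc]
      have e2 : cntF D (T D t.ky) (T D (nthN t.ks j)) C.bs t.rel C.bs C.wss (fun x => x) 0 [] =
          cntN D (T D t.ky) (T D (nthN t.ks j)) C.bs t.rel C.bs C.wss [] [] :=
        cntF_eq D (T D t.ky) (T D (nthN t.ks j)) C.bs t.rel C.bs C.wss []
          (fun x => x) [] (fun x => rfl)
      rw [e, ifz_zero, e2]
      refine le_trans (Set.ncard_le_ncard ?_ (Set.toFinite _))
        (card_conj_le D h hN (gE h t.ky) (gE h (nthN t.ks j)) (T D t.ky) (T D (nthN t.ks j))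
          (comp_gE h t.ky) (comp_gE h (nthN t.ks j)) hbs t.rel ht.hrel)
      rintro g ⟨-, hg⟩
      exact hg
    · have hem : {g : ↥(GS h) | Nat.Coprime j t.o ∧
          g * gE h t.ky = gE h (nthN t.ks j) * g} = ∅ := by
        ext g
        constructor
        · rintro ⟨h1, -⟩
          exact absurd h1 hc
        · intro hg
          exact absurd hg (Set.notMem_empty g)
      rw [hem, Set.ncard_empty]
      exact Nat.zero_le _

end Cfsg.Agent.Helper9.OutG

end
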