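import Mathlib
import Cfsg.Agent.Helper9.OutG.Spec
import Cfsg.Agent.Helper9.ClassCount

set_option autoImplicit false

/-!
The invariant of an element of a group of permutations given by tables: its order and the number
of the points that it moves; the lower bound for the number of the elements with the invariant of
a certified type.
-/

noncomputable section

namespace Cfsg.Agent.Helper9.OutG

open Cfsg.Agent.Helper9.J3 Cfsg.Agent.Helper9.PChain MulAction

variable {D : Dat} {C : ChainD} {N : ℕ} (h : Core D C N)

/-- the order of an element and the number of the points that it moves. -/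
def cInv (g : ↥(GS h)) : ℕ × ℕ := (orderOf g, (g.1).support.card)

theorem cInv_conj (x g : ↥(GS h)) : cInv h (x * g * x⁻¹) = cInv h g := by
  unfold cInv
  have h1 : orderOf (x * g * x⁻¹) = orderOf g := (MulAut.conj x).orderOf_eq g
  have h2 : ((x * g * x⁻¹ : ↥(GS h)) : Equiv.Perm (Fin D.n)).support.card = (g.1).support.card := by
    rw [Subgroup.coe_mul, Subgroup.coe_mul, Subgroup.coe_inv]
    exact Equiv.Perm.card_support_conj
  rw [h1, h2]

theorem cInv_pow (y : ↥(GS h)) (k : ℕ) (hk : Nat.Coprime k (orderOf y)) :
    cInv h (y ^ k) = cInv h y := by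
  unfold cInv
  have h1 : orderOf (y ^ k) = orderOf y := Nat.Coprime.orderOf_pow hk.symm
  have h2 : ((y ^ k : ↥(GS h)) : Equiv.Perm (Fin D.n)).support = (y.1).support := by
    rw [Subgroup.coe_pow]
    apply Equiv.Perm.support_pow_coprime
    rw [Subgroup.orderOf_coe]
    exact hk
  rw [h1, h2]

variable (hN : Nat.card ↥(GS h) = N) (hbs : ∀ b ∈ C.bs, b < D.n) {t : TypeD} (ht : TypeOK D C t)

include ht in
theorem type_cInv : cInv h (gE h t.ky) = (t.o, t.sup) := by
  unfold cInv
  rw [type_order h ht, type_support h ht]

include hN hbs ht in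
/-- the lower bound for the number of the elements with the invariant of a type. -/
theorem type_bound (ho1 : 1 < t.o) (φ m : ℕ) (hφ : Nat.totient t.o = φ) (hnu : 0 < t.nu)
    (hm : t.nu * m = N * φ) : m ≤ {g : ↥(GS h) | cInv h g = (t.o, t.sup)}.ncard := by
  have : Finite ↥(GS h) := inferInstance
  have ho := type_order h ht
  have h1 := Cfsg.Agent.Helper9.ClassCount.card_mul_totient_le (cInv h) (gE h t.ky) t.nu
    (by rw [ho]; exact ho1) (cInv_conj h) (cInv_pow h (gE h t.ky)) (by
      rw [ho]
      exact type_norm h hN hbs ht)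
  rw [type_cInv h ht, ho, hN, hφ, ← hm] at h1
  exact Nat.le_of_mul_le_mul_left h1 hnu

end Cfsg.Agent.Helper9.OutG

end
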