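import Mathlib
import Cfsg.Prelude
import Cfsg.Agent.Helper9.Out.OutLemma2
import Cfsg.Agent.Helper9.HeO.Abs

set_option autoImplicit false

/-!
Abstract lemmas: induction on the subgroup generated by a set in a finite group without inverses;
the automorphisms of a finite group generated by an element of prime order and a second element,
in the presence of a further automorphism, when the images of the second generator that satisfy
the relations are recognized; the number of elements of the outer automorphism group; words given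
by the exponents of their syllables.
-/

namespace Cfsg.Agent.Helper9.OutG

open Cfsg.Agent.Helper9.OutL

/-- induction on the subgroup generated by a set in a finite group, without inverses. -/
theorem closure_induction_fin {G : Type*} [Group G] [Finite G] {S : Set G} {P : G → Prop}
    (h1 : P 1) (hS : ∀ s ∈ S, P s) (hmul : ∀ x y, P x → P y → P (x * y)) :
    ∀ g ∈ Subgroup.closure S, P g := by
  intro g hg
  refine Subgroup.closure_induction (p := fun g _ => P g) (fun s hs => hS s hs) h1
    (fun x y _ _ hx hy => hmul x y hx hy) ?_ hg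
  intro x _ hx
  have hpow : ∀ k : ℕ, P (x ^ k) := by
    intro k
    induction k with
    | zero => rw [pow_zero]; exact h1
    | succ k ih => rw [pow_succ]; exact hmul _ _ ih hx
  have hpos : 0 < orderOf x := orderOf_pos x
  have e : x⁻¹ = x ^ (orderOf x - 1) := by
    rw [inv_eq_iff_mul_eq_one, ← pow_succ', Nat.sub_add_cancel hpos, pow_orderOf_eq_one]
  rw [e]
  exact hpow _

/-- every automorphism is inner, or the product of an inner automorphism and the further
automorphism. -/
theorem aut_cases {G : Type*} [Group G] [Finite G] (p : ℕ) [hp : Fact p.Prime] (a b n : G)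
    (r : ℕ) (hgen : Subgroup.closure ({a, b} : Set G) = ⊤)
    (ha : orderOf a = p) (hp2 : ¬ p ^ 2 ∣ Nat.card G)
    (hn : n * a * n⁻¹ = a ^ r)
    (K0 : List ℕ)
    (hK0 : ∀ k, 0 < k → k < p → ∃ j : ℕ, ∃ k0 ∈ K0, (k * r ^ j) % p = k0 % p)
    (Cand : Set G) (hCand : ∀ β : MulAut G, ∃ i : ℕ, a ^ i * β b * (a ^ i)⁻¹ ∈ Cand)
    (rels : List (List Bool × ℕ)) (hrels : ∀ e ∈ rels, evalW e.1 a b ^ e.2 = 1)
    (τ : MulAut G)
    (htest : ∀ k0 ∈ K0, ∀ b' ∈ Cand, (∀ e ∈ rels, evalW e.1 (a ^ k0) b' ^ e.2 = 1) →
      (∃ c : G, c * a * c⁻¹ = a ^ k0 ∧ c * b * c⁻¹ = b') ∨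
        ∃ c : G, c * τ a * c⁻¹ = a ^ k0 ∧ c * τ b * c⁻¹ = b')
    (α : MulAut G) : (∃ d : G, α = MulAut.conj d) ∨ ∃ d : G, α = MulAut.conj d * τ := by
  obtain ⟨c, k0, b', hk0, -, -, h1, -⟩ :=
    aut_normal_form p a b n r ha hp2 hn K0 hK0 Set.univ (fun _ => Set.mem_univ _) rels hrels α
  obtain ⟨i, hi⟩ := hCand (MulAut.conj c * α)
  obtain ⟨β, hβ⟩ : ∃ β : MulAut G, β = MulAut.conj (a ^ i) * (MulAut.conj c * α) := ⟨_, rfl⟩
  have hβa : β a = a ^ k0 := by
    rw [hβ, MulAut.mul_apply, h1, MulAut.conj_apply, (Commute.pow_pow_self a i k0).eq,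
      mul_inv_cancel_right]
  have hβb : β b = a ^ i * (MulAut.conj c * α) b * (a ^ i)⁻¹ := by
    rw [hβ, MulAut.mul_apply, MulAut.conj_apply]
  have hrβ : ∀ e ∈ rels, evalW e.1 (a ^ k0) (β b) ^ e.2 = 1 := by
    intro e he
    rw [← hβa, ← map_evalW, ← map_pow, hrels e he, map_one]
  have hα : α = MulAut.conj (c⁻¹ * (a ^ i)⁻¹) * β := by
    rw [hβ, map_mul, map_inv, map_inv]
    group
  rcases htest k0 hk0 _ (by rw [hβb]; exact hi) hrβ with ⟨u, hua, hub⟩ | ⟨u, hua, hub⟩
  · left
    have hβ' : β = MulAut.conj u := by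
      apply eq_conj_of_agree a b hgen
      · rw [hβa, hua]
      · rw [hub]
    refine ⟨c⁻¹ * (a ^ i)⁻¹ * u, ?_⟩
    rw [hα, hβ', ← map_mul]
  · right
    have hβ' : β = MulAut.conj u * τ := by
      have key : (β : G ≃* G).toMonoidHom = ((MulAut.conj u * τ : MulAut G) : G ≃* G).toMonoidHom := by
        apply MonoidHom.eq_of_eqOn_dense hgen
        intro x hx
        rcases hx with rfl | rfl
        · change β x = (MulAut.conj u * τ) x
          rw [hβa, MulAut.mul_apply, MulAut.conj_apply, hua]
        · change β x = (MulAut.conj u * τ) x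
          rw [MulAut.mul_apply, MulAut.conj_apply, hub]
      apply MulEquiv.ext
      intro x
      exact congrArg (fun f : G →* G => f x) key
    refine ⟨c⁻¹ * (a ^ i)⁻¹ * u, ?_⟩
    rw [hα, hβ', ← mul_assoc, ← map_mul]

/-- the outer automorphism group has one element when all automorphisms are inner. -/
theorem card_out_one {G : Type*} [Group G]
    (h : ∀ α : MulAut G, ∃ d : G, α = MulAut.conj d) : Nat.card (Cfsg.Out G) = 1 := by
  apply card_quot_eq_one
  intro α
  obtain ⟨d, hd⟩ := h α
  exact ⟨d, hd.symm⟩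

/-- the outer automorphism group has two elements when there is an automorphism that is not inner
and every automorphism is inner or the product of an inner automorphism and that one. -/
theorem card_out_two {G : Type*} [Group G] (τ : MulAut G)
    (hτ : ¬ ∃ d : G, τ = MulAut.conj d)
    (h : ∀ α : MulAut G, (∃ d : G, α = MulAut.conj d) ∨ ∃ d : G, α = MulAut.conj d * τ) :
    Nat.card (Cfsg.Out G) = 2 := by
  have key : ((MulAut.conj : G →* MulAut G).range).index = 2 := by
    rw [Subgroup.index_eq_two_iff]
    refine ⟨τ⁻¹, fun α => ?_⟩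
    rcases h α with ⟨d, hd⟩ | ⟨d, hd⟩
    · right
      refine ⟨⟨d, hd.symm⟩, ?_⟩
      rintro ⟨d', hd'⟩
      apply hτ
      refine ⟨d'⁻¹ * d, ?_⟩
      have : τ = (α * τ⁻¹)⁻¹ * α := by group
      rw [this, ← hd', hd, map_mul, map_inv]
    · left
      refine ⟨⟨d, ?_⟩, ?_⟩
      · rw [hd, mul_inv_cancel_right]
      · rintro ⟨d', hd'⟩
        apply hτ
        refine ⟨d⁻¹ * d', ?_⟩
        have : τ = (MulAut.conj d)⁻¹ * (MulAut.conj d * τ) := by group
        rw [this, ← hd, ← hd', map_mul, map_inv]
  exact key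

/-- the word with given exponents of the syllables. -/
def sylW (sy : List ℕ) : List Bool := sy.flatMap (fun i => List.replicate i true ++ [false])

theorem evalW_sylW {G : Type*} [Monoid G] (sy : List ℕ) (x y : G) :
    evalW (sylW sy) x y = (sy.map (fun i => x ^ i * y)).prod := by
  unfold evalW sylW
  induction sy with
  | nil => rfl
  | cons i sy ih =>
    rw [List.flatMap_cons, List.map_append, List.prod_append, ih, List.map_cons, List.prod_cons]
    congr 1
    rw [List.map_append, List.prod_append, List.map_replicate, List.prod_replicate]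
    simp

end Cfsg.Agent.Helper9.OutG
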