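import Mathlib
import Cfsg.Agent.Helper9.OutG.Syl
import Cfsg.Agent.Helper9.OutG.Abs

set_option autoImplicit false
set_option Elab.async false

/-!
The conjugates of the second generator: representatives under conjugation by the powers of the
element of prime order, given by packed words, and the certificate that the conjugates of the
representatives by these powers are closed under conjugation by the second generator.
-/

noncomputable section

namespace Cfsg.Agent.Helper9.OutG

open Cfsg.Agent.Helper9.J3 Cfsg.Agent.Helper9.PChain Cfsg.Agent.Helper9.HeO MulAction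

/-- a letter of a packed word. -/
def letC (c t : ℕ) : ℕ := Nat.land (Nat.shiftRight c (Nat.add 8 (Nat.mul 8 t))) 255

/-- the word of the first letters of a packed word. -/
def wordN (c l : ℕ) : List ℕ := Nat.rec [] (fun t acc => letC c t :: acc) l

/-- the word of a packed word. -/
def wordOf (c : ℕ) : List ℕ := wordN c (Nat.land c 255)

/-- the image of a point under the first letters of a packed word. -/
def evalCN (D : Dat) (c l x : ℕ) : ℕ := Nat.rec x (fun t acc => sapp (T D (letC c t)) acc) l

/-- the image of a point under a packed word. -/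
def evalC (D : Dat) (c x : ℕ) : ℕ := evalCN D c (Nat.land c 255) x

/-- the image of a point under the inverse of the first letters of a packed word. -/
def evalCIN (D : Dat) (c l x : ℕ) : ℕ :=
  Nat.rec (motive := fun _ => ℕ → ℕ) (fun x => x)
    (fun t ih x => sapp ih (T D (ivI D (letC c t)) x)) l x

/-- the image of a point under the inverse of a packed word. -/
def evalCI (D : Dat) (c x : ℕ) : ℕ := evalCIN D c (Nat.land c 255) x

theorem evalCN_eq (D : Dat) (c l x : ℕ) : evalCN D c l x = evalT D (wordN c l) x := by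
  induction l with
  | zero => rfl
  | succ l ih =>
    change sapp (T D (letC c l)) (evalCN D c l x) = evalT D (letC c l :: wordN c l) x
    rw [sapp_eq, evalT_cons, ih]

theorem evalC_eq (D : Dat) (c x : ℕ) : evalC D c x = evalT D (wordOf c) x := evalCN_eq D c _ x

theorem evalCIN_eq (D : Dat) (c l x : ℕ) : evalCIN D c l x = evalI D (wordN c l) x := by
  induction l generalizing x with
  | zero => rfl
  | succ l ih =>
    change sapp (evalCIN D c l) (T D (ivI D (letC c l)) x) = evalI D (letC c l :: wordN c l) x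
    rw [sapp_eq, evalI_cons, ih]

theorem evalCI_eq (D : Dat) (c x : ℕ) : evalCI D c x = evalI D (wordOf c) x := evalCIN_eq D c _ x

/-- the data of the conjugates: the number of representatives, the packed words of the
representatives, the packed certificate of the closure, and the conjugate of a representative by a
power that is the second generator. -/
structure ClsD where
  /-- the number of representatives. -/
  R : ℕ
  /-- the width of a packed word. -/
  cw : ℕ
  /-- the mask of a packed word. -/
  cmsk : ℕ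
  /-- the shift of the index of a leaf of the packed words. -/
  cs : ℕ
  /-- the mask of the index in a leaf of the packed words. -/
  csm : ℕ
  /-- the packed words. -/
  reps : NTree
  /-- the width of an entry of the certificate. -/
  lw : ℕ
  /-- the mask of an entry of the certificate. -/
  lmsk : ℕ
  /-- the shift of the index of a leaf of the certificate. -/
  ls : ℕ
  /-- the mask of the index in a leaf of the certificate. -/
  lsm : ℕ
  /-- the packed certificate. -/
  clo : NTree
  /-- the exponent of the power for the second generator. -/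
  bI : ℕ
  /-- the representative for the second generator. -/
  bJ : ℕ

/-- the packed word of a representative. -/
def codeOf (Cl : ClsD) (j : ℕ) : ℕ :=
  lkF Cl.cw Cl.cmsk (tget Cl.reps (Nat.shiftRight j Cl.cs)) (Nat.land j Cl.csm)

/-- the entry of the certificate. -/
def cloOf (Cl : ClsD) (v : ℕ) : ℕ :=
  lkF Cl.lw Cl.lmsk (tget Cl.clo (Nat.shiftRight v Cl.ls)) (Nat.land v Cl.lsm)

/-- the image of a point under the conjugate of the second generator by a packed word. -/
def cjF (D : Dat) (E : GenD) (c x : ℕ) : ℕ := evalC D c (T D E.iB (evalCI D c x))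

/-- the image of a point under a representative. -/
def repF (D : Dat) (E : GenD) (Cl : ClsD) (j x : ℕ) : ℕ := sapp (fun c => cjF D E c x) (codeOf Cl j)

/-- the exponent of the inverse of a power. -/
def pm (E : GenD) (i : ℕ) : ℕ := Nat.mod (Nat.sub E.p i) E.p

/-- the image of a point under the conjugate of a representative by a power. -/
def crF (D : Dat) (E : GenD) (Cl : ClsD) (i j x : ℕ) : ℕ :=
  pwT D E i (repF D E Cl j (pwT D E (pm E i) x))

/-- the check of an entry of the certificate. -/
def cloChk (D : Dat) (C : ChainD) (E : GenD) (Cl : ClsD) (v : ℕ) : Bool :=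
  sapp (fun j => sapp (fun i => sapp (fun e => sapp (fun i' => sapp (fun j' =>
    andB (ltB i' E.p) (andB (ltB j' Cl.R)
      (agreeL C.bs (fun x => T D E.iB (crF D E Cl i j (T D E.iB x))) (crF D E Cl i' j'))))
    (Nat.shiftRight e 5)) (Nat.land e 31)) (cloOf Cl v)) (Nat.mod v E.p)) (Nat.div v E.p)

/-- the checks of the conjugates. -/
structure ClsOK (D : Dat) (C : ChainD) (E : GenD) (Cl : ClsD) : Prop where
  /-- the certificate of the closure. -/
  hclo : ∀ v, v < Cl.R * E.p → cloChk D C E Cl v = true
  /-- the second generator is a conjugate of a representative by a power. -/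
  hb : andB (ltB Cl.bI E.p) (andB (ltB Cl.bJ Cl.R)
    (agreeL C.bs (T D E.iB) (crF D E Cl Cl.bI Cl.bJ))) = true
  /-- the second generator is an involution. -/
  hb2 : allB (fun x => Nat.beq (T D E.iB (T D E.iB x)) x) D.n = true

variable {D : Dat} {C : ChainD} {N : ℕ} (h : Core D C N) {E : GenD} (hE : GenOK D E)
  (Cl : ClsD)

/-- the conjugate of the second generator by a packed word. -/
def cjE (c : ℕ) : ↥(GS h) := gW h (wordOf c) * gE h E.iB * (gW h (wordOf c))⁻¹

theorem comp_cjE (c : ℕ) : Comp (cjE h (E := E) c).1 (cjF D E c) := by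
  have h1 := Comp.coe_mul h (Comp.coe_mul h (comp_gW h (wordOf c)) (comp_gE h E.iB))
    (comp_gW_inv h (wordOf c))
  intro x
  rw [cjE, h1 x]
  change evalT D (wordOf c) (T D E.iB (evalI D (wordOf c) x.val)) = _
  rw [← evalC_eq, ← evalCI_eq]
  rfl

/-- a representative. -/
def repE (j : ℕ) : ↥(GS h) := cjE h (E := E) (codeOf Cl j)

theorem comp_repE (j : ℕ) : Comp (repE h (E := E) Cl j).1 (repF D E Cl j) := by
  intro x
  rw [repE, comp_cjE h _ x]
  change _ = sapp (fun c => cjF D E c x.val) (codeOf Cl j)
  rw [sapp_eq]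

/-- the conjugate of a representative by a power. -/
def crE (i j : ℕ) : ↥(GS h) :=
  gE h (E.iP + i) * repE h (E := E) Cl j * gE h (E.iP + pm E i)

theorem comp_crE (i j : ℕ) : Comp (crE h (E := E) Cl i j).1 (crF D E Cl i j) := by
  intro x
  exact Comp.coe_mul h (Comp.coe_mul h (comp_gE h (E.iP + i)) (comp_repE h Cl j))
    (comp_gE h (E.iP + pm E i)) x

include hE

omit hE in
theorem pm_lt [hp : Fact E.p.Prime] (i : ℕ) : pm E i < E.p := Nat.mod_lt _ hp.out.pos

theorem gE_pm [hp : Fact E.p.Prime] {i : ℕ} (hi : i < E.p) :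
    gE h (E.iP + pm E i) = (gE h E.iA ^ i)⁻¹ := by
  rw [← gE_pow h hE (pm_lt (E := E) i), eq_inv_iff_mul_eq_one, ← pow_add]
  have e : (pm E i + i) % E.p = 0 := by
    unfold pm
    change ((E.p - i) % E.p + i) % E.p = 0
    rw [Nat.mod_add_mod, Nat.sub_add_cancel hi.le, Nat.mod_self]
  rw [← pow_mod_orderOf, orderOf_gE_iA h hE, e, pow_zero]

theorem crE_eq [hp : Fact E.p.Prime] {i : ℕ} (hi : i < E.p) (j : ℕ) :
    crE h (E := E) Cl i j = gE h E.iA ^ i * repE h (E := E) Cl j * (gE h E.iA ^ i)⁻¹ := by
  unfold crE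
  rw [gE_pm h hE hi, gE_pow h hE hi]

variable {Cl} (hC : ClsOK D C E Cl) (hN : Nat.card ↥(GS h) = N)

include hC hN

omit hE hN in
theorem gE_iB_sq : gE h E.iB * gE h E.iB = 1 :=
  eq_of_allB h (Comp.coe_mul h (comp_gE h _) (comp_gE h _)) Comp.one hC.hb2

omit hE hN in
theorem gE_iB_inv : (gE h E.iB)⁻¹ = gE h E.iB :=
  inv_eq_of_mul_eq_one_left (gE_iB_sq h hC)

/-- the conjugates of the representatives by the powers. -/
def CSet (Cl : ClsD) : Set ↥(GS h) :=
  {y | ∃ i j, i < E.p ∧ j < Cl.R ∧ y = crE h (E := E) Cl i j}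

omit hC hN in
theorem conj_a_mem [hp : Fact E.p.Prime] {y : ↥(GS h)} (hy : y ∈ CSet h (E := E) Cl) :
    gE h E.iA * y * (gE h E.iA)⁻¹ ∈ CSet h (E := E) Cl := by
  obtain ⟨i, j, hi, hj, rfl⟩ := hy
  refine ⟨(i + 1) % E.p, j, Nat.mod_lt _ hp.out.pos, hj, ?_⟩
  rw [crE_eq h hE Cl hi, crE_eq h hE Cl (Nat.mod_lt _ hp.out.pos)]
  have e : gE h E.iA ^ ((i + 1) % E.p) = gE h E.iA * gE h E.iA ^ i := by
    conv_lhs => rw [← orderOf_gE_iA h hE]
    rw [pow_mod_orderOf, pow_succ']
  rw [e]
  group

theorem conj_b_mem [hp : Fact E.p.Prime] {y : ↥(GS h)} (hy : y ∈ CSet h (E := E) Cl) :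
    gE h E.iB * y * (gE h E.iB)⁻¹ ∈ CSet h (E := E) Cl := by
  obtain ⟨i, j, hi, hj, rfl⟩ := hy
  have hv : j * E.p + i < Cl.R * E.p := by
    calc j * E.p + i < j * E.p + E.p := by omega
      _ = (j + 1) * E.p := by ring
      _ ≤ Cl.R * E.p := Nat.mul_le_mul_right _ hj
  have h1 := hC.hclo _ hv
  unfold cloChk at h1
  have e1 : Nat.div (j * E.p + i) E.p = j := by
    change (j * E.p + i) / E.p = j
    rw [Nat.mul_comm, Nat.mul_add_div hp.out.pos, Nat.div_eq_of_lt hi, Nat.add_zero]
  have e2 : Nat.mod (j * E.p + i) E.p = i := by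
    change (j * E.p + i) % E.p = i
    rw [Nat.mul_comm, Nat.mul_add_mod, Nat.mod_eq_of_lt hi]
  rw [e1, e2, sapp_eq, sapp_eq, sapp_eq, sapp_eq, sapp_eq] at h1
  obtain ⟨h2, h3⟩ := andB_true h1
  obtain ⟨h3, h4⟩ := andB_true h3
  refine ⟨_, _, ltB_true h2, ltB_true h3, ?_⟩
  rw [gE_iB_inv h hC]
  exact eq_of_agreeL h hN
    (Comp.coe_mul h (Comp.coe_mul h (comp_gE h _) (comp_crE h Cl i j)) (comp_gE h _))
    (comp_crE h Cl _ _) h4

omit hE in
theorem b_mem_CSet : gE h E.iB ∈ CSet h (E := E) Cl := by
  obtain ⟨h2, h3⟩ := andB_true hC.hb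
  obtain ⟨h3, h4⟩ := andB_true h3
  exact ⟨_, _, ltB_true h2, ltB_true h3,
    eq_of_agreeL h hN (comp_gE h _) (comp_crE h Cl _ _) h4⟩

/-- every conjugate of the second generator is the conjugate of a representative by a power. -/
theorem exists_rep [hp : Fact E.p.Prime] [Finite ↥(GS h)] (g : ↥(GS h)) :
    g * gE h E.iB * g⁻¹ ∈ CSet h (E := E) Cl := by
  have key : ∀ g ∈ HAB h (E := E), ∀ y ∈ CSet h (E := E) Cl, g * y * g⁻¹ ∈ CSet h (E := E) Cl := by
    apply closure_induction_fin
    · intro y hy
      rwa [one_mul, inv_one, mul_one]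
    · intro s hs y hy
      rcases hs with rfl | rfl
      · exact conj_a_mem h hE hy
      · exact conj_b_mem h hE hC hN hy
    · intro x z hx hz y hy
      have : x * z * y * (x * z)⁻¹ = x * (z * y * z⁻¹) * x⁻¹ := by group
      rw [this]
      exact hx _ (hz y hy)
  have hg : g ∈ HAB h (E := E) := by
    rw [closure_ab h hE]
    exact Subgroup.mem_top g
  exact key g hg _ (b_mem_CSet h hC hN)

/-- the representatives. -/
def CandS (Cl : ClsD) : Set ↥(GS h) := {y | ∃ j, j < Cl.R ∧ y = repE h (E := E) Cl j}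

/-- a conjugate of the second generator is conjugate to a representative under a power of the
element of prime order. -/
theorem exists_cand [hp : Fact E.p.Prime] [Finite ↥(GS h)] {y : ↥(GS h)}
    (hy : ∃ g : ↥(GS h), g * gE h E.iB * g⁻¹ = y) :
    ∃ i : ℕ, gE h E.iA ^ i * y * (gE h E.iA ^ i)⁻¹ ∈ CandS h (E := E) Cl := by
  obtain ⟨g, rfl⟩ := hy
  obtain ⟨i, j, hi, hj, e⟩ := exists_rep h hE hC hN g
  refine ⟨pm E i, j, hj, ?_⟩
  rw [e, crE_eq h hE Cl hi, gE_pow h hE (pm_lt (E := E) i), gE_pm h hE hi]
  group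

end Cfsg.Agent.Helper9.OutG

end
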