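import Mathlib
import Cfsg.Agent.Helper9.OutG.Cls

set_option autoImplicit false
set_option Elab.async false
set_option linter.unusedSectionVars false

/-!
The relations of the two generators, given by the exponents of the syllables of words and the
orders of the words, and the test of the representatives: a representative fails a relation at a
point, or it is the image of the second generator under an inner automorphism or under the product
of an inner automorphism and a further automorphism.
-/

noncomputable section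

namespace Cfsg.Agent.Helper9.OutG

open Cfsg.Agent.Helper9.J3 Cfsg.Agent.Helper9.PChain Cfsg.Agent.Helper9.HeO
open Cfsg.Agent.Helper9.OutL MulAction

/-- the entry of a list of relations with a given index. -/
def nthR (l : List (List ℕ × ℕ)) (i : ℕ) : List ℕ × ℕ :=
  List.rec (motive := fun _ => ℕ → List ℕ × ℕ) (fun _ => ([], 0))
    (fun w _ ih i => Nat.rec w (fun i' _ => ih i') i) l i

theorem nthR_mem (l : List (List ℕ × ℕ)) (i : ℕ) : nthR l i ∈ l ∨ nthR l i = ([], 0) := by
  induction l generalizing i with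
  | nil => exact Or.inr rfl
  | cons w l ih =>
    cases i with
    | zero => exact Or.inl List.mem_cons_self
    | succ i =>
      rcases ih i with h1 | h1
      · exact Or.inl (List.mem_cons_of_mem _ h1)
      · exact Or.inr h1

/-- a representative that is an image of the second generator: the index of the exponent, the
representative, the kind, and the word of the conjugating element. -/
structure Spec where
  /-- the index of the exponent. -/
  q : ℕ
  /-- the representative. -/
  j : ℕ
  /-- the kind: zero for an inner automorphism. -/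
  kind : ℕ
  /-- the word of the conjugating element. -/
  cw : List ℕ

/-- the data of the test: the relations, the exponents, the tables of the images of the two
generators under the further automorphism, the packed witnesses, and the representatives that are
images of the second generator. -/
structure TstD where
  /-- the relations. -/
  rels : List (List ℕ × ℕ)
  /-- the exponents. -/
  K0 : List ℕ
  /-- the table of the image of the element of prime order. -/
  iTA : ℕ
  /-- the table of the image of the second generator. -/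
  iTB : ℕ
  /-- the width of a witness. -/
  tw : ℕ
  /-- the mask of a witness. -/
  tmsk : ℕ
  /-- the shift of the index of a leaf. -/
  ts : ℕ
  /-- the mask of the index in a leaf. -/
  tsm : ℕ
  /-- the packed witnesses. -/
  tst : NTree
  /-- the representatives that are images of the second generator. -/
  spec : List Spec

/-- the image of a point under a word in a power of the element of prime order and a second
function, given by the exponents of the syllables. -/
def sylF (D : Dat) (E : GenD) (k0 : ℕ) (bf : ℕ → ℕ) (sy : List ℕ) (x : ℕ) : ℕ :=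
  List.rec x (fun i _ acc => pwT D E (Nat.mod (Nat.mul k0 i) E.p) (bf acc)) sy

/-- the check of a relation for the two generators. -/
def relOK (D : Dat) (E : GenD) (e : List ℕ × ℕ) : Bool :=
  allB (fun x => Nat.beq (powF (sylF D E 1 (T D E.iB) e.1) e.2 x) x) D.n

/-- the check of the relations for the two generators. -/
def relsOK (D : Dat) (E : GenD) (l : List (List ℕ × ℕ)) : Bool :=
  List.rec true (fun e _ ih => andB (relOK D E e) ih) l

theorem relsOK_true {D : Dat} {E : GenD} {l : List (List ℕ × ℕ)} (hl : relsOK D E l = true) :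
    ∀ e ∈ l, relOK D E e = true := by
  induction l with
  | nil => intro e he; exact absurd he List.not_mem_nil
  | cons e0 l ih =>
    have h' : andB (relOK D E e0) (relsOK D E l) = true := hl
    obtain ⟨h1, h2⟩ := andB_true h'
    intro e he
    rcases List.mem_cons.1 he with rfl | he
    · exact h1
    · exact ih h2 e he

/-- the witness of a representative. -/
def tstOf (Ts : TstD) (v : ℕ) : ℕ :=
  lkF Ts.tw Ts.tmsk (tget Ts.tst (Nat.shiftRight v Ts.ts)) (Nat.land v Ts.tsm)

/-- the check that a representative fails a relation at a point. -/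
def failChk (D : Dat) (E : GenD) (Cl : ClsD) (Ts : TstD) (q j : ℕ) : Bool :=
  sapp (fun e => sapp (fun ρ => sapp (fun x =>
    andB (ltB x D.n) (notB (Nat.beq
      (powF (sylF D E (nthN Ts.K0 q) (repF D E Cl j) (nthR Ts.rels ρ).1) (nthR Ts.rels ρ).2 x) x)))
    (Nat.shiftRight e 4)) (Nat.land e 15)) (tstOf Ts (Nat.add (Nat.mul q Cl.R) j))

/-- the check of a representative that is an image of the second generator. -/
def specChk (D : Dat) (C : ChainD) (E : GenD) (Cl : ClsD) (Ts : TstD) (s : Spec) : Bool :=
  sapp (fun k0 => Nat.rec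
    (andB (agreeL C.bs (fun x => evalT D s.cw (T D E.iA x)) (fun x => pwT D E k0 (evalT D s.cw x)))
      (agreeL C.bs (fun x => evalT D s.cw (T D E.iB x))
        (fun x => repF D E Cl s.j (evalT D s.cw x))))
    (fun _ _ =>
      andB (agreeL C.bs (fun x => evalT D s.cw (T D Ts.iTA x))
          (fun x => pwT D E k0 (evalT D s.cw x)))
        (agreeL C.bs (fun x => evalT D s.cw (T D Ts.iTB x))
          (fun x => repF D E Cl s.j (evalT D s.cw x)))) s.kind)
    (Nat.mod (nthN Ts.K0 s.q) E.p)

/-- the search of the representatives that are images of the second generator. -/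
def specAny (D : Dat) (C : ChainD) (E : GenD) (Cl : ClsD) (Ts : TstD) (q j : ℕ)
    (l : List Spec) : Bool :=
  List.rec false (fun s _ ih => orB (andB (Nat.beq s.q q) (andB (Nat.beq s.j j)
    (specChk D C E Cl Ts s))) ih) l

theorem specAny_true {D : Dat} {C : ChainD} {E : GenD} {Cl : ClsD} {Ts : TstD} {q j : ℕ}
    {l : List Spec} (hl : specAny D C E Cl Ts q j l = true) :
    ∃ s : Spec, s.q = q ∧ s.j = j ∧ specChk D C E Cl Ts s = true := by
  induction l with
  | nil => exact absurd hl Bool.false_ne_true
  | cons s0 l ih =>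
    have h' : orB (andB (Nat.beq s0.q q) (andB (Nat.beq s0.j j) (specChk D C E Cl Ts s0)))
      (specAny D C E Cl Ts q j l) = true := hl
    rcases orB_true h' with h1 | h1
    · obtain ⟨h2, h3⟩ := andB_true h1
      obtain ⟨h3, h4⟩ := andB_true h3
      exact ⟨s0, Nat.eq_of_beq_eq_true h2, Nat.eq_of_beq_eq_true h3, h4⟩
    · exact ih h1

/-- the test of a representative. -/
def testChk (D : Dat) (C : ChainD) (E : GenD) (Cl : ClsD) (Ts : TstD) (v : ℕ) : Bool :=
  sapp (fun q => sapp (fun j =>
    orB (failChk D E Cl Ts q j) (specAny D C E Cl Ts q j Ts.spec)) (Nat.mod v Cl.R))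
    (Nat.div v Cl.R)

/-- the checks of the test. -/
structure TstOK (D : Dat) (C : ChainD) (E : GenD) (Cl : ClsD) (Ts : TstD) : Prop where
  /-- the relations hold for the two generators. -/
  hrels : relsOK D E Ts.rels = true
  /-- the test of the representatives. -/
  htst : ∀ v, v < Ts.K0.length * Cl.R → testChk D C E Cl Ts v = true

variable {D : Dat} {C : ChainD} {N : ℕ} (h : Core D C N) {E : GenD} (hE : GenOK D E)
  {Cl : ClsD} (Ts : TstD)

/-- the relations as words in two letters. -/
def relsW (Ts : TstD) : List (List Bool × ℕ) := Ts.rels.map (fun e => (sylW e.1, e.2))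

include hE

/-- the function of a word in a power of the element of prime order and a second element. -/
theorem comp_sylW [hp : Fact E.p.Prime] (k0 : ℕ) {y : ↥(GS h)} {bf : ℕ → ℕ} (hy : Comp y.1 bf)
    (sy : List ℕ) : Comp (evalW (sylW sy) (gE h E.iA ^ k0) y).1 (sylF D E k0 bf sy) := by
  rw [evalW_sylW]
  induction sy with
  | nil => exact fun _ => rfl
  | cons i sy ih =>
    rw [List.map_cons, List.prod_cons]
    have e : (gE h E.iA ^ k0) ^ i = gE h (E.iP + (k0 * i) % E.p) := by
      rw [← pow_mul, ← gE_pow h hE (Nat.mod_lt _ hp.out.pos)]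
      conv_rhs => rw [← orderOf_gE_iA h hE]
      rw [pow_mod_orderOf]
    rw [e]
    intro x
    exact Comp.coe_mul h (Comp.coe_mul h (comp_gE h _) hy) ih x

/-- the relations hold for the two generators. -/
theorem hrelsW [hp : Fact E.p.Prime] (hT : relsOK D E Ts.rels = true) :
    ∀ e ∈ relsW Ts, evalW e.1 (gE h E.iA) (gE h E.iB) ^ e.2 = 1 := by
  intro e he
  obtain ⟨e', he', rfl⟩ := List.mem_map.1 he
  have h1 := relsOK_true hT e' he'
  have h2 := comp_sylW h hE 1 (comp_gE h E.iB) e'.1
  rw [pow_one] at h2
  exact eq_of_allB h (Comp.coe_pow h h2 e'.2) Comp.one h1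

/-- a representative that fails a relation at a point does not satisfy the relations. -/
theorem fail_absurd [hp : Fact E.p.Prime] {q j : ℕ} (hf : failChk D E Cl Ts q j = true)
    (hr : ∀ e ∈ relsW Ts,
      evalW e.1 (gE h E.iA ^ nthN Ts.K0 q) (repE h (E := E) Cl j) ^ e.2 = 1) : False := by
  unfold failChk at hf
  rw [sapp_eq, sapp_eq, sapp_eq] at hf
  obtain ⟨h1, h2⟩ := andB_true hf
  have hx := ltB_true h1
  set ρ := Nat.land (tstOf Ts (Nat.add (Nat.mul q Cl.R) j)) 15 with hρ
  have h3 : evalW (sylW (nthR Ts.rels ρ).1) (gE h E.iA ^ nthN Ts.K0 q) (repE h (E := E) Cl j) ^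
      (nthR Ts.rels ρ).2 = 1 := by
    rcases nthR_mem Ts.rels ρ with h4 | h4
    · exact hr (sylW (nthR Ts.rels ρ).1, (nthR Ts.rels ρ).2)
        (List.mem_map.2 ⟨nthR Ts.rels ρ, h4, rfl⟩)
    · rw [h4]
      exact pow_zero _
  have h5 := Comp.all_of_eq
    (Comp.coe_pow h (comp_sylW h hE (nthN Ts.K0 q) (comp_repE h Cl j) (nthR Ts.rels ρ).1)
      (nthR Ts.rels ρ).2) Comp.one (congrArg Subtype.val h3) hx
  have h6 := notB_true h2
  rw [h5, Nat.beq_refl] at h6
  exact Bool.noConfusion h6

variable (hN : Nat.card ↥(GS h) = N)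

include hN

/-- a representative that passes the check of the images of the second generator is such an
image. -/
theorem spec_sound [hp : Fact E.p.Prime] {s : Spec} (hs : specChk D C E Cl Ts s = true) :
    (s.kind = 0 ∧ gW h s.cw * gE h E.iA * (gW h s.cw)⁻¹ = gE h E.iA ^ nthN Ts.K0 s.q ∧
        gW h s.cw * gE h E.iB * (gW h s.cw)⁻¹ = repE h (E := E) Cl s.j) ∨
      (gW h s.cw * gE h Ts.iTA * (gW h s.cw)⁻¹ = gE h E.iA ^ nthN Ts.K0 s.q ∧
        gW h s.cw * gE h Ts.iTB * (gW h s.cw)⁻¹ = repE h (E := E) Cl s.j) := by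
  unfold specChk at hs
  rw [sapp_eq] at hs
  have hpw : gE h E.iA ^ nthN Ts.K0 s.q = gE h (E.iP + Nat.mod (nthN Ts.K0 s.q) E.p) := by
    change _ = gE h (E.iP + (nthN Ts.K0 s.q) % E.p)
    rw [← gE_pow h hE (Nat.mod_lt _ hp.out.pos)]
    conv_lhs => rw [← pow_mod_orderOf, orderOf_gE_iA h hE]
  cases hk : s.kind with
  | zero =>
    rw [hk] at hs
    obtain ⟨h1, h2⟩ := andB_true hs
    left
    refine ⟨rfl, ?_, ?_⟩
    · rw [mul_inv_eq_iff_eq_mul, hpw]
      exact eq_of_agreeL h hN (Comp.coe_mul h (comp_gW h _) (comp_gE h _))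
        (Comp.coe_mul h (comp_gE h _) (comp_gW h _)) h1
    · rw [mul_inv_eq_iff_eq_mul]
      exact eq_of_agreeL h hN (Comp.coe_mul h (comp_gW h _) (comp_gE h _))
        (Comp.coe_mul h (comp_repE h Cl _) (comp_gW h _)) h2
  | succ k' =>
    rw [hk] at hs
    obtain ⟨h1, h2⟩ := andB_true hs
    right
    refine ⟨?_, ?_⟩
    · rw [mul_inv_eq_iff_eq_mul, hpw]
      exact eq_of_agreeL h hN (Comp.coe_mul h (comp_gW h _) (comp_gE h _))
        (Comp.coe_mul h (comp_gE h _) (comp_gW h _)) h1
    · rw [mul_inv_eq_iff_eq_mul]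
      exact eq_of_agreeL h hN (Comp.coe_mul h (comp_gW h _) (comp_gE h _))
        (Comp.coe_mul h (comp_repE h Cl _) (comp_gW h _)) h2

variable {Ts} (hT : TstOK D C E Cl Ts)

include hT

/-- the test of the representatives. -/
theorem test_sound [hp : Fact E.p.Prime] (hR : 0 < Cl.R) :
    ∀ k0 ∈ Ts.K0, ∀ b' ∈ CandS h (E := E) Cl,
      (∀ e ∈ relsW Ts, evalW e.1 (gE h E.iA ^ k0) b' ^ e.2 = 1) →
      (∃ c : ↥(GS h), c * gE h E.iA * c⁻¹ = gE h E.iA ^ k0 ∧ c * gE h E.iB * c⁻¹ = b') ∨
        ∃ c : ↥(GS h), c * gE h Ts.iTA * c⁻¹ = gE h E.iA ^ k0 ∧ c * gE h Ts.iTB * c⁻¹ = b' := by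
  intro k0 hk0 b' hb' hr
  obtain ⟨j, hj, rfl⟩ := hb'
  obtain ⟨q, hq, rfl⟩ := exists_nthN hk0
  have hv : q * Cl.R + j < Ts.K0.length * Cl.R := by
    calc q * Cl.R + j < q * Cl.R + Cl.R := by omega
      _ = (q + 1) * Cl.R := by ring
      _ ≤ Ts.K0.length * Cl.R := Nat.mul_le_mul_right _ hq
  have h1 := hT.htst _ hv
  unfold testChk at h1
  have e1 : Nat.div (q * Cl.R + j) Cl.R = q := by
    change (q * Cl.R + j) / Cl.R = q
    rw [Nat.mul_comm, Nat.mul_add_div hR, Nat.div_eq_of_lt hj, Nat.add_zero]
  have e2 : Nat.mod (q * Cl.R + j) Cl.R = j := by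
    change (q * Cl.R + j) % Cl.R = j
    rw [Nat.mul_comm, Nat.mul_add_mod, Nat.mod_eq_of_lt hj]
  rw [e1, e2, sapp_eq, sapp_eq] at h1
  rcases orB_true h1 with h2 | h2
  · exact absurd (fail_absurd h hE Ts h2 hr) id
  · obtain ⟨s, rfl, rfl, hs⟩ := specAny_true h2
    rcases spec_sound h hE Ts hN hs with ⟨-, h3, h4⟩ | ⟨h3, h4⟩
    · exact Or.inl ⟨gW h s.cw, h3, h4⟩
    · exact Or.inr ⟨gW h s.cw, h3, h4⟩

end Cfsg.Agent.Helper9.OutG

end
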