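import Mathlib
import Cfsg.Agent.Helper9.OutG.Tst

set_option autoImplicit false
set_option Elab.async false
set_option linter.unusedSectionVars false

/-!
A permutation that normalizes the group without being in it: the automorphism of the group that it
induces is not inner, because only the neutral permutation commutes with all elements of the
group.
-/

noncomputable section

namespace Cfsg.Agent.Helper9.OutG

open Cfsg.Agent.Helper9.J3 Cfsg.Agent.Helper9.PChain Cfsg.Agent.Helper9.HeO
open Cfsg.Agent.Helper9.OutL MulAction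

/-- the data of the normalizing permutation: its packed table and that of its inverse, the words of
its conjugates of the letters, a point, words that map the point to every point, and words that
fix the point and together move every other point. -/
structure TauD where
  /-- the packed table. -/
  xT : ℕ
  /-- the packed table of the inverse. -/
  xI : ℕ
  /-- the words of the conjugates of the letters. -/
  lx : List (List ℕ)
  /-- the point. -/
  pt : ℕ
  /-- the words that map the point to every point. -/
  tw : List (List ℕ)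
  /-- the words that fix the point. -/
  sg : List (List ℕ)

/-- the image of a point under the normalizing permutation. -/
def xF (D : Dat) (X : TauD) (x : ℕ) : ℕ := lkF D.bits D.msk X.xT x

/-- the image of a point under the inverse of the normalizing permutation. -/
def xG (D : Dat) (X : TauD) (x : ℕ) : ℕ := lkF D.bits D.msk X.xI x

/-- the check that some word of a list moves a point. -/
def anyMove (D : Dat) (y : ℕ) (l : List (List ℕ)) : Bool :=
  List.rec false (fun w _ ih => orB (notB (Nat.beq (evalT D w y) y)) ih) l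

theorem anyMove_true {D : Dat} {y : ℕ} {l : List (List ℕ)} (hl : anyMove D y l = true) :
    ∃ w ∈ l, evalT D w y ≠ y := by
  induction l with
  | nil => exact absurd hl Bool.false_ne_true
  | cons w0 l ih =>
    have h' : orB (notB (Nat.beq (evalT D w0 y) y)) (anyMove D y l) = true := hl
    rcases orB_true h' with h1 | h1
    · refine ⟨w0, List.mem_cons_self, fun e => ?_⟩
      have := notB_true h1
      rw [e, Nat.beq_refl] at this
      exact Bool.noConfusion this
    · obtain ⟨w, hw, hne⟩ := ih h1
      exact ⟨w, List.mem_cons_of_mem _ hw, hne⟩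

/-- the check that the words of a list fix a point. -/
def allFix (D : Dat) (y : ℕ) (l : List (List ℕ)) : Bool :=
  List.rec true (fun w _ ih => andB (Nat.beq (evalT D w y) y) ih) l

theorem allFix_true {D : Dat} {y : ℕ} {l : List (List ℕ)} (hl : allFix D y l = true) :
    ∀ w ∈ l, evalT D w y = y := by
  induction l with
  | nil => intro w hw; exact absurd hw List.not_mem_nil
  | cons w0 l ih =>
    have h' : andB (Nat.beq (evalT D w0 y) y) (allFix D y l) = true := hl
    obtain ⟨h1, h2⟩ := andB_true h'
    intro w hw
    rcases List.mem_cons.1 hw with rfl | hw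
    · exact Nat.eq_of_beq_eq_true h1
    · exact ih h2 w hw

/-- the checks of the normalizing permutation. -/
structure TauOK (D : Dat) (C : ChainD) (E : GenD) (Ts : TstD) (X : TauD) : Prop where
  /-- the tables are inverse permutations. -/
  hperm : allB (fun x => andB (ltB (xF D X x) D.n) (andB (ltB (xG D X x) D.n)
    (andB (Nat.beq (xG D X (xF D X x)) x) (Nat.beq (xF D X (xG D X x)) x)))) D.n = true
  /-- the conjugates of the letters. -/
  hlx : allB (fun l => allB (fun x => Nat.beq (xF D X (T D l x))
    (evalT D (nthW X.lx l) (xF D X x))) D.n) D.L = true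
  /-- the conjugates of the two generators. -/
  hab : allB (fun x => andB (Nat.beq (xF D X (T D E.iA x)) (T D Ts.iTA (xF D X x)))
    (Nat.beq (xF D X (T D E.iB x)) (T D Ts.iTB (xF D X x)))) D.n = true
  /-- the permutation cannot be sifted. -/
  hsift : siftChk D C.bs C.wss (xF D X) = true
  /-- the point. -/
  hpt : X.pt < D.n
  /-- the words that map the point to every point. -/
  htw : allB (fun y => Nat.beq (evalT D (nthW X.tw y) X.pt) y) D.n = true
  /-- the words that fix the point. -/
  hsg : allFix D X.pt X.sg = true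
  /-- the words that fix the point move every other point. -/
  hmv : allB (fun y => orB (Nat.beq y X.pt) (anyMove D y X.sg)) D.n = true

variable {D : Dat} {C : ChainD} {N : ℕ} (h : Core D C N) {E : GenD} {Ts : TstD} {X : TauD}
  (hX : TauOK D C E Ts X)

include hX

/-- the normalizing permutation. -/
def xP : Equiv.Perm (Fin D.n) :=
  mkPerm (xF D X) (xG D X)
    (fun _ hx => ltB_true (andB_true (allB_true hX.hperm hx)).1)
    (fun _ hx => ltB_true (andB_true (andB_true (allB_true hX.hperm hx)).2).1)
    (fun _ hx => Nat.eq_of_beq_eq_true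
      (andB_true (andB_true (andB_true (allB_true hX.hperm hx)).2).2).1)
    (fun _ hx => Nat.eq_of_beq_eq_true
      (andB_true (andB_true (andB_true (allB_true hX.hperm hx)).2).2).2)

theorem comp_xP : Comp (xP hX) (xF D X) := fun _ => rfl

/-- the conjugate of a letter is in the group. -/
theorem conj_letter_mem {l : ℕ} (hl : l < D.L) :
    xP hX * El D h.tab l * (xP hX)⁻¹ ∈ GS h := by
  have e : xP hX * El D h.tab l * (xP hX)⁻¹ = permW D h.tab (nthW X.lx l) := by
    rw [mul_inv_eq_iff_eq_mul]
    exact Comp.eq_of_all (Comp.mul (comp_xP hX) (comp_gE h l))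
      (Comp.mul (comp_gW h _) (comp_xP hX)) (allB_true hX.hlx hl)
  rw [e]
  exact permW_mem D h.tab h.dw _

/-- the conjugate of an element of the group is in the group. -/
theorem conj_mem {g : Equiv.Perm (Fin D.n)} (hg : g ∈ GS h) :
    xP hX * g * (xP hX)⁻¹ ∈ GS h := by
  refine Subgroup.closure_induction (p := fun g _ => xP hX * g * (xP hX)⁻¹ ∈ GS h)
    ?_ ?_ ?_ ?_ hg
  · rintro y ⟨l, rfl⟩
    exact conj_letter_mem h hX l.isLt
  · rw [mul_one, mul_inv_cancel]
    exact Subgroup.one_mem _
  · intro y z _ _ h1 h2
    have : xP hX * (y * z) * (xP hX)⁻¹ = (xP hX * y * (xP hX)⁻¹) * (xP hX * z * (xP hX)⁻¹) := by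
      group
    rw [this]
    exact Subgroup.mul_mem _ h1 h2
  · intro y _ h1
    have : xP hX * y⁻¹ * (xP hX)⁻¹ = (xP hX * y * (xP hX)⁻¹)⁻¹ := by group
    rw [this]
    exact Subgroup.inv_mem _ h1

/-- conjugation by the normalizing permutation as a homomorphism. -/
def tauHom : ↥(GS h) →* ↥(GS h) where
  toFun g := ⟨xP hX * g.1 * (xP hX)⁻¹, conj_mem h hX g.2⟩
  map_one' := by
    apply Subtype.ext
    change xP hX * 1 * (xP hX)⁻¹ = 1
    rw [mul_one, mul_inv_cancel]
  map_mul' g k := by
    apply Subtype.ext
    change xP hX * (g.1 * k.1) * (xP hX)⁻¹ = (xP hX * g.1 * (xP hX)⁻¹) * (xP hX * k.1 * (xP hX)⁻¹)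
    group

theorem tauHom_injective : Function.Injective (tauHom h hX) := by
  intro g k hgk
  have h1 : xP hX * g.1 * (xP hX)⁻¹ = xP hX * k.1 * (xP hX)⁻¹ := congrArg Subtype.val hgk
  apply Subtype.ext
  exact mul_left_cancel (mul_right_cancel h1)

/-- the automorphism induced by the normalizing permutation. -/
def tauAut [Finite ↥(GS h)] : MulAut ↥(GS h) :=
  MulEquiv.ofBijective (tauHom h hX)
    ⟨tauHom_injective h hX, Finite.injective_iff_surjective.1 (tauHom_injective h hX)⟩

theorem tauAut_val [Finite ↥(GS h)] (g : ↥(GS h)) :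
    (tauAut h hX g).1 = xP hX * g.1 * (xP hX)⁻¹ := rfl

theorem tauAut_a [Finite ↥(GS h)] : tauAut h hX (gE h E.iA) = gE h Ts.iTA := by
  apply Subtype.ext
  rw [tauAut_val, mul_inv_eq_iff_eq_mul]
  apply Comp.eq_of_all (Comp.mul (comp_xP hX) (comp_gE h _)) (Comp.mul (comp_gE h _) (comp_xP hX))
  apply allB_of_forall
  intro i hi
  exact (andB_true (allB_true hX.hab hi)).1

theorem tauAut_b [Finite ↥(GS h)] : tauAut h hX (gE h E.iB) = gE h Ts.iTB := by
  apply Subtype.ext
  rw [tauAut_val, mul_inv_eq_iff_eq_mul]
  apply Comp.eq_of_all (Comp.mul (comp_xP hX) (comp_gE h _)) (Comp.mul (comp_gE h _) (comp_xP hX))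
  apply allB_of_forall
  intro i hi
  exact (andB_true (allB_true hX.hab hi)).2

/-- only the neutral permutation commutes with all elements of the group. -/
theorem centralizer_trivial (z : Equiv.Perm (Fin D.n))
    (hz : ∀ g ∈ GS h, z * g = g * z) : z = 1 := by
  let b : Fin D.n := ⟨X.pt, hX.hpt⟩
  have hzb : z b = b := by
    by_contra hne
    have hne' : (z b).val ≠ X.pt := fun e => hne (Fin.ext e)
    rcases orB_true (allB_true hX.hmv (z b).isLt) with h1 | h1
    · exact hne' (Nat.eq_of_beq_eq_true h1)
    · obtain ⟨w, hw, hmove⟩ := anyMove_true h1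
      have hfix := allFix_true hX.hsg w hw
      have h2 := hz _ (permW_mem D h.tab h.dw w)
      have h3 := congrArg (fun σ : Equiv.Perm (Fin D.n) => (σ b).val) h2
      simp only [Equiv.Perm.mul_apply] at h3
      have h4 : evalT D w b.val = X.pt := hfix
      have h5 : permW D h.tab w b = b := Fin.ext (by rw [permW_apply]; exact h4)
      rw [h5, permW_apply] at h3
      exact hmove h3.symm
  apply Equiv.ext
  intro y
  have hy := Nat.eq_of_beq_eq_true (allB_true hX.htw y.isLt)
  have h2 := hz _ (permW_mem D h.tab h.dw (nthW X.tw y.val))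
  have h3 := congrArg (fun σ : Equiv.Perm (Fin D.n) => σ b) h2
  simp only [Equiv.Perm.mul_apply] at h3
  have h5 : permW D h.tab (nthW X.tw y.val) b = y := Fin.ext (by rw [permW_apply]; exact hy)
  rw [h5, hzb, h5] at h3
  exact h3

variable (hN : Nat.card ↥(GS h) = N)

include hN

/-- the normalizing permutation is not in the group. -/
theorem xP_not_mem : xP hX ∉ GS h := by
  refine not_mem_of_sift D h.tab (GS h) C.bs C.wss (words_mem h) h.chain ?_ (xF D X) hX.hsift
    (xP hX) (comp_xP hX)
  rw [hN, h.plen]

/-- the automorphism induced by the normalizing permutation is not inner. -/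
theorem tauAut_not_inner [Finite ↥(GS h)] : ¬ ∃ d : ↥(GS h), tauAut h hX = MulAut.conj d := by
  rintro ⟨d, hd⟩
  have hz : d.1⁻¹ * xP hX = 1 := by
    apply centralizer_trivial h hX
    intro g hg
    have h1 := congrArg (fun f : MulAut ↥(GS h) => (f ⟨g, hg⟩).1) hd
    simp only [tauAut_val, MulAut.conj_apply, Subgroup.coe_mul, Subgroup.coe_inv] at h1
    have h2 : d.1⁻¹ * (xP hX * g * (xP hX)⁻¹) * xP hX = d.1⁻¹ * (d.1 * g * d.1⁻¹) * xP hX := by
      rw [h1]
    calc d.1⁻¹ * xP hX * g = d.1⁻¹ * (xP hX * g * (xP hX)⁻¹) * xP hX := by group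
      _ = d.1⁻¹ * (d.1 * g * d.1⁻¹) * xP hX := h2
      _ = g * (d.1⁻¹ * xP hX) := by group
  rw [inv_mul_eq_one] at hz
  apply xP_not_mem h hX hN
  rw [← hz]
  exact d.2

end Cfsg.Agent.Helper9.OutG

end
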