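import Mathlib
import Cfsg.Agent.Helper9.OutG.Tau

set_option autoImplicit false
set_option Elab.async false
set_option linter.unusedSectionVars false

/-!
The number of elements of the outer automorphism group of a group of permutations given by tables
with the certificates of the chain, the generation, the subgroup of order a power of two, the
conjugates of the second generator, the test, and, when there is one, the normalizing permutation.
-/

noncomputable section

namespace Cfsg.Agent.Helper9.OutG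

open Cfsg.Agent.Helper9.J3 Cfsg.Agent.Helper9.PChain Cfsg.Agent.Helper9.HeO
open Cfsg.Agent.Helper9.OutL MulAction

variable {D : Dat} {C : ChainD} {N : ℕ} (h : Core D C N) (hN : Nat.card ↥(GS h) = N)
  {E : GenD} (hE : GenOK D E) {S : SylD} (hS : SylOK D C N S) (hb0 : nthN S.tI 0 = E.iB)
  {Cl : ClsD} (hC : ClsOK D C E Cl) (hR : 0 < Cl.R) {Ts : TstD} (hT : TstOK D C E Cl Ts)

include hN hE hS hb0 hC hR hT

theorem finite_GS : Finite ↥(GS h) := by
  apply Nat.finite_of_card_ne_zero
  rw [hN, hS.hodd.1]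
  have := hS.hodd.2
  have h0 : S.odd ≠ 0 := by omega
  positivity

/-- every automorphism maps the second generator to a conjugate of a representative by a power of
the element of prime order. -/
theorem hCandS [hp : Fact E.p.Prime] (β : MulAut ↥(GS h)) :
    ∃ i : ℕ, gE h E.iA ^ i * β (gE h E.iB) * (gE h E.iA ^ i)⁻¹ ∈ CandS h (E := E) Cl := by
  have := finite_GS h hN hE hS hb0 hC hR hT
  apply exists_cand h hE hC hN
  have h1 := aut_conj_tE h hS hN β
  have e : tE h S 0 = gE h E.iB := by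
    unfold tE
    rw [hb0]
  rw [e] at h1
  exact h1

/-- every automorphism is inner or the product of an inner automorphism and a further
automorphism that maps the two generators to the elements of the two tables. -/
theorem cases_of_tau [hp : Fact E.p.Prime] (hp2 : ¬ E.p ^ 2 ∣ N)
    (hK0 : ∀ k, 0 < k → k < E.p → ∃ j : ℕ, ∃ k0 ∈ Ts.K0, (k * E.r ^ j) % E.p = k0 % E.p)
    (τ : MulAut ↥(GS h)) (hτa : τ (gE h E.iA) = gE h Ts.iTA) (hτb : τ (gE h E.iB) = gE h Ts.iTB)
    (α : MulAut ↥(GS h)) :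
    (∃ d : ↥(GS h), α = MulAut.conj d) ∨ ∃ d : ↥(GS h), α = MulAut.conj d * τ := by
  have := finite_GS h hN hE hS hb0 hC hR hT
  refine aut_cases E.p (gE h E.iA) (gE h E.iB) (gE h E.iN) E.r (closure_ab h hE)
    (orderOf_gE_iA h hE) (by rw [hN]; exact hp2) (conj_gE_iN h hE) Ts.K0 hK0
    (CandS h (E := E) Cl) (hCandS h hN hE hS hb0 hC hR hT) (relsW Ts) (hrelsW h hE Ts hT.hrels) τ ?_ α
  rw [hτa, hτb]
  exact test_sound h hE hN hT hR

/-- the outer automorphism group has two elements. -/
theorem out_two [hp : Fact E.p.Prime] (hp2 : ¬ E.p ^ 2 ∣ N)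
    (hK0 : ∀ k, 0 < k → k < E.p → ∃ j : ℕ, ∃ k0 ∈ Ts.K0, (k * E.r ^ j) % E.p = k0 % E.p)
    {X : TauD} (hX : TauOK D C E Ts X) : Nat.card (Cfsg.Out ↥(GS h)) = 2 := by
  have := finite_GS h hN hE hS hb0 hC hR hT
  exact card_out_two (tauAut h hX) (tauAut_not_inner h hX hN)
    (cases_of_tau h hN hE hS hb0 hC hR hT hp2 hK0 (tauAut h hX) (tauAut_a h hX) (tauAut_b h hX))

/-- the outer automorphism group has one element. -/
theorem out_one [hp : Fact E.p.Prime] (hp2 : ¬ E.p ^ 2 ∣ N)
    (hK0 : ∀ k, 0 < k → k < E.p → ∃ j : ℕ, ∃ k0 ∈ Ts.K0, (k * E.r ^ j) % E.p = k0 % E.p)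
    (hTA : Ts.iTA = E.iA) (hTB : Ts.iTB = E.iB) : Nat.card (Cfsg.Out ↥(GS h)) = 1 := by
  apply card_out_one
  intro α
  rcases cases_of_tau h hN hE hS hb0 hC hR hT hp2 hK0 1 (by rw [hTA]; rfl) (by rw [hTB]; rfl) α
    with h1 | ⟨d, hd⟩
  · exact h1
  · exact ⟨d, by rw [hd, mul_one]⟩

end Cfsg.Agent.Helper9.OutG

end
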