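import Mathlib
import Cfsg.Agent.Helper9.OutG.Norm
import Cfsg.Agent.Helper9.OutG.Spec

set_option autoImplicit false

/-!
Subgroups of a group of permutations given by tables that are lists of words with a table of
products, checked on the base.
-/

noncomputable section

namespace Cfsg.Agent.Helper9.OutG

open Cfsg.Agent.Helper9.J3

/-- a list of words with a table of products; the first word is empty. -/
structure WSD where
  /-- the number of the words. -/
  M : ℕ
  /-- the words. -/
  cw : ℕ → List ℕ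
  /-- the table of products. -/
  m : ℕ → ℕ → ℕ

/-- the function of a word of the list. -/
def wF (D : Dat) (S : WSD) (i x : ℕ) : ℕ := evalT D (S.cw i) x

/-- the check of the table of products on the base. -/
def mulChk (D : Dat) (C : ChainD) (S : WSD) : Bool :=
  allB (fun i => allB (fun j => andB (ltB (S.m i j) S.M)
    (agreeL C.bs (fun x => wF D S i (wF D S j x)) (wF D S (S.m i j)))) S.M) S.M

/-- the check that the elements are different. -/
def injChk (D : Dat) (C : ChainD) (S : WSD) : Bool :=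
  allB (fun i => allB (fun j => orB (Nat.beq i j)
    (notB (agreeL C.bs (wF D S i) (wF D S j)))) S.M) S.M

/-- the checked properties. -/
structure WSOK (D : Dat) (C : ChainD) (S : WSD) : Prop where
  pos : 0 < S.M
  one : S.cw 0 = []
  mul : mulChk D C S = true
  inj : injChk D C S = true
  base : ∀ β ∈ C.bs, β < D.n

variable {D : Dat} {C : ChainD} {N : ℕ} (h : Core D C N)

/-- the element of a word of the list. -/
def wE (S : WSD) (i : ℕ) : ↥(GS h) := gW h (S.cw i)

theorem comp_wE (S : WSD) (i : ℕ) : Comp (wE h S i).1 (wF D S i) := comp_gW h _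

variable (hN : Nat.card ↥(GS h) = N) {S : WSD} (hS : WSOK D C S)

include hS in
theorem wE_zero : wE h S 0 = 1 := by
  unfold wE
  rw [hS.one]
  exact gW_nil h

include hS in
theorem wm_lt {i j : ℕ} (hi : i < S.M) (hj : j < S.M) : S.m i j < S.M :=
  ltB_true (andB_true (allB_true (allB_true hS.mul hi) hj)).1

include hN hS in
theorem wE_mul {i j : ℕ} (hi : i < S.M) (hj : j < S.M) :
    wE h S i * wE h S j = wE h S (S.m i j) :=
  eq_of_agreeL h hN (Comp.coe_mul h (comp_wE h S i) (comp_wE h S j)) (comp_wE h S _)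
    (andB_true (allB_true (allB_true hS.mul hi) hj)).2

include hS in
theorem wE_inj {i j : ℕ} (hi : i < S.M) (hj : j < S.M) (e : wE h S i = wE h S j) : i = j := by
  rcases orB_true (allB_true (allB_true hS.inj hi) hj) with h1 | h1
  · exact Nat.eq_of_beq_eq_true h1
  · have h2 := notB_true h1
    have h3 : agreeL C.bs (wF D S i) (wF D S j) = true := by
      apply agreeL_of
      intro β hβ
      exact Comp.all_of_eq (comp_wE h S i) (comp_wE h S j) (congrArg Subtype.val e)
        (hS.base β hβ)
    rw [h2] at h3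
    exact absurd h3 Bool.false_ne_true

/-- the subgroup of the elements of the list. -/
def wSub : Subgroup ↥(GS h) where
  carrier := {g | ∃ i, i < S.M ∧ g = wE h S i}
  one_mem' := ⟨0, hS.pos, (wE_zero h hS).symm⟩
  mul_mem' := by
    rintro _ _ ⟨i, hi, rfl⟩ ⟨j, hj, rfl⟩
    exact ⟨S.m i j, wm_lt hS hi hj, wE_mul h hN hS hi hj⟩
  inv_mem' := by
    rintro g ⟨i, hi, rfl⟩
    have hpow : ∀ k : ℕ, ∃ j, j < S.M ∧ wE h S i ^ (k + 1) = wE h S j := by
      intro k
      induction k with
      | zero => exact ⟨i, hi, pow_one _⟩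
      | succ k ih =>
        obtain ⟨j, hj, e⟩ := ih
        exact ⟨S.m j i, wm_lt hS hj hi, by rw [pow_succ, e, wE_mul h hN hS hj hi]⟩
    have : Finite ↥(GS h) := inferInstance
    have hpos : 0 < orderOf (wE h S i) := orderOf_pos _
    rcases Nat.lt_or_ge (orderOf (wE h S i)) 2 with h1 | h1
    · have h2 : orderOf (wE h S i) = 1 := by omega
      rw [orderOf_eq_one_iff] at h2
      refine ⟨0, hS.pos, ?_⟩
      rw [h2, inv_one, wE_zero h hS]
    · obtain ⟨j, hj, e⟩ := hpow (orderOf (wE h S i) - 2)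
      refine ⟨j, hj, ?_⟩
      rw [← e]
      apply inv_eq_of_mul_eq_one_right
      rw [← pow_succ']
      have : orderOf (wE h S i) - 2 + 1 + 1 = orderOf (wE h S i) := by omega
      rw [this]
      exact pow_orderOf_eq_one _


theorem mem_wSub (g : ↥(GS h)) : g ∈ wSub h hN hS ↔ ∃ i, i < S.M ∧ g = wE h S i := Iff.rfl

theorem wE_mem {i : ℕ} (hi : i < S.M) : wE h S i ∈ wSub h hN hS := ⟨i, hi, rfl⟩

theorem card_wSub : Nat.card (wSub h hN hS) = S.M := by
  have e : Fin S.M ≃ wSub h hN hS := Equiv.ofBijective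
    (fun i => ⟨wE h S i.val, wE_mem h hN hS i.isLt⟩) (by
    constructor
    · intro i j hij
      exact Fin.ext (wE_inj h hS i.isLt j.isLt (congrArg Subtype.val hij))
    · rintro ⟨g, i, hi, rfl⟩
      exact ⟨⟨i, hi⟩, rfl⟩)
  rw [← Nat.card_congr e, Nat.card_fin]

/-- the number of an element of the subgroup. -/
def wIdx (g : wSub h hN hS) : ℕ := Classical.choose g.2

theorem wIdx_lt (g : wSub h hN hS) : wIdx h hN hS g < S.M := (Classical.choose_spec g.2).1

theorem wIdx_spec (g : wSub h hN hS) : (g : ↥(GS h)) = wE h S (wIdx h hN hS g) :=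
  (Classical.choose_spec g.2).2

theorem wIdx_eq (g : wSub h hN hS) {i : ℕ} (hi : i < S.M) (e : (g : ↥(GS h)) = wE h S i) :
    wIdx h hN hS g = i :=
  wE_inj h hS (wIdx_lt h hN hS g) hi ((wIdx_spec h hN hS g).symm.trans e)

theorem wIdx_one : wIdx h hN hS 1 = 0 := wIdx_eq h hN hS 1 hS.pos (wE_zero h hS).symm

theorem wIdx_mul (a b : wSub h hN hS) :
    wIdx h hN hS (a * b) = S.m (wIdx h hN hS a) (wIdx h hN hS b) := by
  apply wIdx_eq h hN hS _ (wm_lt hS (wIdx_lt h hN hS a) (wIdx_lt h hN hS b))
  rw [← wE_mul h hN hS (wIdx_lt h hN hS a) (wIdx_lt h hN hS b), ← wIdx_spec h hN hS a,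
    ← wIdx_spec h hN hS b]
  rfl

/-- the homomorphism given by a map on the numbers that respects the table of products. -/
def wHom {M : Type*} [Monoid M] (φ : ℕ → M) (h1 : φ 0 = 1)
    (h2 : ∀ i, i < S.M → ∀ j, j < S.M → φ (S.m i j) = φ i * φ j) : wSub h hN hS →* M where
  toFun g := φ (wIdx h hN hS g)
  map_one' := by rw [wIdx_one, h1]
  map_mul' a b := by rw [wIdx_mul, h2 _ (wIdx_lt h hN hS a) _ (wIdx_lt h hN hS b)]

theorem wHom_apply {M : Type*} [Monoid M] (φ : ℕ → M) (h1 : φ 0 = 1)
    (h2 : ∀ i, i < S.M → ∀ j, j < S.M → φ (S.m i j) = φ i * φ j) (g : wSub h hN hS) :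
    wHom h hN hS φ h1 h2 g = φ (wIdx h hN hS g) := rfl

/-- the number of the points moved by a table. -/
theorem card_support_gE (k : ℕ) :
    ((gE h k).1).support.card =
      sumF (fun x => Bool.rec 1 0 (Nat.beq (T D k x) x)) D.n := by
  rw [sumF_indicator]
  apply Finset.card_bij (fun (x : Fin D.n) _ => x.val)
  · intro x hx
    rw [Equiv.Perm.mem_support] at hx
    rw [Finset.mem_filter, Finset.mem_range]
    refine ⟨x.isLt, ?_⟩
    cases hb : Nat.beq (T D k x.val) x.val
    · rfl
    · exfalso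
      apply hx
      apply Fin.ext
      rw [comp_gE h k x]
      exact Nat.eq_of_beq_eq_true hb
  · intro x _ x' _ hxx
    exact Fin.ext hxx
  · intro v hv
    rw [Finset.mem_filter, Finset.mem_range] at hv
    refine ⟨⟨v, hv.1⟩, ?_, rfl⟩
    rw [Equiv.Perm.mem_support]
    intro hcon
    have h2 := congrArg Fin.val hcon
    rw [comp_gE h k ⟨v, hv.1⟩] at h2
    have h3 : Nat.beq (T D k v) v = true := by
      have h2' : T D k v = v := h2
      rw [h2']
      exact Nat.beq_refl _
    rw [hv.2] at h3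
    exact Bool.false_ne_true h3

end Cfsg.Agent.Helper9.OutG

end
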