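import Mathlib
import Cfsg.Agent.Helper9.OutG.SpecMain
import Cfsg.Agent.Helper9.ClassCount2

set_option autoImplicit false

/-!
A finer invariant of an element of a group of permutations given by tables: its order, the number
of the points that it moves and the number of the points that its square moves; the certificate
that the powers of the element of a type with exponents prime to the order are conjugate to the
element or to its inverse.
-/

noncomputable section

namespace Cfsg.Agent.Helper9.OutG

open Cfsg.Agent.Helper9.J3 Cfsg.Agent.Helper9.PChain MulAction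

variable {D : Dat} {C : ChainD} {N : ℕ} (h : Core D C N)

/-- the number of the points moved by the element of a table. -/
theorem supp_gE (k : ℕ) : ((gE h k).1).support.card = supCnt D k := by
  unfold supCnt
  rw [sumF_indicator]
  apply Finset.card_bij (fun (x : Fin D.n) _ => x.val)
  · intro x hx
    rw [Equiv.Perm.mem_support] at hx
    rw [Finset.mem_filter, Finset.mem_range]
    refine ⟨x.isLt, ?_⟩
    cases hb : Nat.beq (T D k x.val) x.val
    · rfl
    · exfalso
      apply hx
      apply Fin.ext
      rw [comp_gE h k x]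
      exact Nat.eq_of_beq_eq_true hb
  · intro x _ x' _ hxx
    exact Fin.ext hxx
  · intro v hv
    rw [Finset.mem_filter, Finset.mem_range] at hv
    refine ⟨⟨v, hv.1⟩, ?_, rfl⟩
    rw [Equiv.Perm.mem_support]
    intro hcon
    have h2 := congrArg Fin.val hcon
    rw [comp_gE h k ⟨v, hv.1⟩] at h2
    have h3 : Nat.beq (T D k v) v = true := by
      have h2' : T D k v = v := h2
      rw [h2']
      exact Nat.beq_refl _
    rw [hv.2] at h3
    exact Bool.false_ne_true h3

/-- the order of an element, the number of the points that it moves and the number of the points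
that its square moves. -/
def cInv3 (g : ↥(GS h)) : ℕ × ℕ × ℕ :=
  (orderOf g, (g.1).support.card, ((g ^ 2 : ↥(GS h)).1).support.card)

theorem cInv3_conj (x g : ↥(GS h)) : cInv3 h (x * g * x⁻¹) = cInv3 h g := by
  unfold cInv3
  have h1 : orderOf (x * g * x⁻¹) = orderOf g := (MulAut.conj x).orderOf_eq g
  have h2 : ((x * g * x⁻¹ : ↥(GS h)) : Equiv.Perm (Fin D.n)).support.card = (g.1).support.card := by
    rw [Subgroup.coe_mul, Subgroup.coe_mul, Subgroup.coe_inv]
    exact Equiv.Perm.card_support_conj
  have h3 : (((x * g * x⁻¹) ^ 2 : ↥(GS h)) : Equiv.Perm (Fin D.n)).support.card =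
      ((g ^ 2 : ↥(GS h)).1).support.card := by
    rw [conj_pow, Subgroup.coe_mul, Subgroup.coe_mul, Subgroup.coe_inv]
    exact Equiv.Perm.card_support_conj
  rw [h1, h2, h3]

theorem cInv3_pow (y : ↥(GS h)) (k : ℕ) (hk : Nat.Coprime k (orderOf y)) :
    cInv3 h (y ^ k) = cInv3 h y := by
  unfold cInv3
  have h1 : orderOf (y ^ k) = orderOf y := Nat.Coprime.orderOf_pow hk.symm
  have h2 : ((y ^ k : ↥(GS h)) : Equiv.Perm (Fin D.n)).support = (y.1).support := by
    rw [Subgroup.coe_pow]
    apply Equiv.Perm.support_pow_coprime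
    rw [Subgroup.orderOf_coe]
    exact hk
  have h3 : (((y ^ k) ^ 2 : ↥(GS h)) : Equiv.Perm (Fin D.n)).support =
      ((y ^ 2 : ↥(GS h)).1).support := by
    rw [← pow_mul, mul_comm, pow_mul, Subgroup.coe_pow]
    apply Equiv.Perm.support_pow_coprime
    rw [Subgroup.orderOf_coe]
    exact Nat.Coprime.coprime_dvd_right (orderOf_pow_dvd 2) hk
  rw [h1, h2, h3]

theorem cInv3_inv (g : ↥(GS h)) : cInv3 h g⁻¹ = cInv3 h g := by
  unfold cInv3
  have h2 : ((g⁻¹ : ↥(GS h)) : Equiv.Perm (Fin D.n)).support = (g.1).support := by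
    rw [Subgroup.coe_inv]
    exact Equiv.Perm.support_inv _
  have h3 : (((g⁻¹) ^ 2 : ↥(GS h)) : Equiv.Perm (Fin D.n)).support =
      ((g ^ 2 : ↥(GS h)).1).support := by
    rw [inv_pow, Subgroup.coe_inv]
    exact Equiv.Perm.support_inv _
  rw [orderOf_inv, h2, h3]

theorem cInv3_one : cInv3 h 1 = (1, 0, 0) := by
  unfold cInv3
  rw [orderOf_one, one_pow]
  have : ((1 : ↥(GS h)) : Equiv.Perm (Fin D.n)).support.card = 0 := by
    rw [Subgroup.coe_one, Equiv.Perm.support_one, Finset.card_empty]
  rw [this]

/-- the check of the conjugators of the powers of the element of a type: for every exponent `j`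
prime to the order, the word number `j` conjugates the element to its power with the exponent `j`,
or, when the sign number `j` is zero, to the inverse of that power. -/
def cjChk (D : Dat) (t : TypeD) (sg : List ℕ) (cj : List (List ℕ)) : Bool :=
  allB (fun j => orB (notB (Nat.beq (Nat.gcd j t.o) 1))
    (allB (fun x => Nat.beq (evalT D (nthW cj j ++ [t.ky]) x)
      (evalT D (nthN t.ks (ifz (nthN sg j) (Nat.mod (Nat.sub t.o j) t.o) j) :: nthW cj j) x))
      D.n)) t.o

variable {t : TypeD} (ht : TypeOK D C t)

include ht in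
theorem type_conj_lt {sg : List ℕ} {cj : List (List ℕ)} (hc : cjChk D t sg cj = true) {j : ℕ}
    (hj : j < t.o) (hco : Nat.Coprime j t.o) :
    IsConj (gE h t.ky) (gE h t.ky ^ j) ∨ IsConj (gE h t.ky)⁻¹ (gE h t.ky ^ j) := by
  have ho := type_order h ht
  unfold cjChk at hc
  rcases orB_true (allB_true hc hj) with h1 | h1
  · have h2 := notB_true h1
    rw [Nat.Coprime] at hco
    rw [hco] at h2
    exact absurd h2 (by decide)
  set u := gW h (nthW cj j) with hu
  set j' := ifz (nthN sg j) (Nat.mod (Nat.sub t.o j) t.o) j with hj'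
  have hj'lt : j' < t.o := by
    rw [hj']
    by_cases hs : nthN sg j = 0
    · rw [hs, ifz_zero]
      exact Nat.mod_lt _ ht.hpos
    · rw [ifz_pos hs]
      exact hj
  have key : u * gE h t.ky = gE h t.ky ^ j' * u := by
    rw [type_pow h ht hj'lt, hu, ← gW_single, ← gW_append, ← gW_single h (nthN t.ks j'),
      ← gW_append]
    apply Subtype.ext
    apply Comp.eq_of_all (comp_gW h _) (comp_gW h _)
    exact h1
  have key2 : u * gE h t.ky * u⁻¹ = gE h t.ky ^ j' := by
    rw [key]
    group
  by_cases hs : nthN sg j = 0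
  · right
    have e : j' = (t.o - j) % t.o := by
      rw [hj', hs, ifz_zero]
      rfl
    have e2 : gE h t.ky ^ j' = (gE h t.ky ^ j)⁻¹ := by
      rw [e, ← ho, pow_mod_orderOf, eq_inv_iff_mul_eq_one, ← pow_add,
        Nat.sub_add_cancel (by rw [ho]; exact hj.le), pow_orderOf_eq_one]
    rw [isConj_iff]
    refine ⟨u, ?_⟩
    have : u * (gE h t.ky)⁻¹ * u⁻¹ = (u * gE h t.ky * u⁻¹)⁻¹ := by group
    rw [this, key2, e2, inv_inv]
  · left
    have e : j' = j := by rw [hj', ifz_pos hs]
    rw [isConj_iff]
    exact ⟨u, by rw [key2, e]⟩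

include ht in
/-- the powers of the element of a type with exponents prime to the order are conjugate to the
element or to its inverse. -/
theorem type_conj_pow {sg : List ℕ} {cj : List (List ℕ)} (hc : cjChk D t sg cj = true) (k : ℕ)
    (hk : Nat.Coprime k t.o) :
    IsConj (gE h t.ky) (gE h t.ky ^ k) ∨ IsConj (gE h t.ky)⁻¹ (gE h t.ky ^ k) := by
  have ho := type_order h ht
  have e : gE h t.ky ^ k = gE h t.ky ^ (k % t.o) := by
    rw [← ho, pow_mod_orderOf]
  rw [e]
  apply type_conj_lt h ht hc (Nat.mod_lt _ ht.hpos)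
  rw [Nat.Coprime, ← Nat.gcd_rec, Nat.gcd_comm]
  exact hk

variable (hN : Nat.card ↥(GS h) = N) (hbs : ∀ b ∈ C.bs, b < D.n)

include hN hbs ht in
/-- the lower bound for the number of the conjugates of the generators of the cyclic subgroup of a
type. -/
theorem type_bound_conjGens (ho1 : 1 < t.o) (φ m : ℕ) (hφ : Nat.totient t.o = φ) (hnu : 0 < t.nu)
    (hm : t.nu * m = N * φ) :
    m ≤ (Cfsg.Agent.Helper9.ClassCount.conjGens (gE h t.ky)).ncard := by
  have : Finite ↥(GS h) := inferInstance
  have ho := type_order h ht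
  have h1 := Cfsg.Agent.Helper9.ClassCount.card_mul_totient_le_conjGens (gE h t.ky) t.nu
    (by rw [ho]; exact ho1) (by
      rw [ho]
      exact type_norm h hN hbs ht)
  rw [ho, hN, hφ, ← hm] at h1
  exact Nat.le_of_mul_le_mul_left h1 hnu

include ht in
/-- the invariant of the element of a type of order at least 3, given the number of the points
moved by the table of its square. -/
theorem type_cInv3 (s2 : ℕ) (h2 : 2 < t.o) (hs2 : Nat.beq (supCnt D (nthN t.ks 2)) s2 = true) :
    cInv3 h (gE h t.ky) = (t.o, t.sup, s2) := by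
  unfold cInv3
  rw [type_order h ht, type_support h ht, type_pow h ht h2, supp_gE,
    Nat.eq_of_beq_eq_true hs2]

include ht in
/-- the invariant of the element of a type of order 2. -/
theorem type_cInv3_two (h2 : t.o = 2) : cInv3 h (gE h t.ky) = (2, t.sup, 0) := by
  unfold cInv3
  have ho := type_order h ht
  have e : gE h t.ky ^ 2 = 1 := by
    rw [← h2, ← ho]
    exact pow_orderOf_eq_one _
  rw [ho, type_support h ht, e, h2]
  have : ((1 : ↥(GS h)) : Equiv.Perm (Fin D.n)).support.card = 0 := by
    rw [Subgroup.coe_one, Equiv.Perm.support_one, Finset.card_empty]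
  rw [this]

end Cfsg.Agent.Helper9.OutG

end
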